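import Cfsg.Agent.Octagon.KPar

/-!
# `RootSys 8` for `²F₄` (K side of S1144, m = 8)
-/

set_option autoImplicit false
set_option linter.unusedSectionVars false

namespace Cfsg.Agent.Octagon.KRoot

open Cfsg.Lie Cfsg.Agent.ChevalleyStructure.TwF4.Rel Cfsg.Agent.ChevalleyStructure.TwF4.Fix
open Cfsg.Agent.ChevalleyStructure.TwF4.Groups Cfsg.Agent.ChevalleyStructure.TwF4.RankOne
open Cfsg.Agent.ChevalleyStructure.TwF4.Twisted Cfsg.Agent.ChevalleyStructure.TwF4.TwistedFix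
open Cfsg.Agent.ChevalleyStructure.TwF4.BN
open Cfsg.Agent.Octagon.Pkg Cfsg.Agent.Octagon.KRel Cfsg.Agent.Octagon.KSys Cfsg.Agent.Octagon.KPar
open Cfsg.Agent.TitsThree.RankTwoZ Cfsg.Agent.SplitTwo
open scoped commutatorElement

/-! ### positive commutators in a group with `OctPar` -/

section abstract

variable {F : Type*} [Field F] {σ : F →+* F} {G : Type*} [Group G] {X : ZMod (2 * 8) → Subgroup G}
  {x1 x3 x5 x7 : F → G} {x2 x4 x6 x8 : F → F → G}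

/-- the supremum of the root groups strictly between `i` and `j` -/
def btw (X : ZMod (2 * 8) → Subgroup G) (i j : ℕ) : Subgroup G :=
  ⨆ r ∈ Set.Ioo i j, X ((r : ℕ) : ZMod (2 * 8))

theorem le_btw {i j : ℕ} (r : ℕ) (h1 : i < r) (h2 : r < j) {g : G} (hg : g ∈ X ((r : ℕ) : ZMod (2 * 8))) :
    g ∈ btw X i j :=
  (le_iSup₂_of_le (f := fun (r : ℕ) (_ : r ∈ Set.Ioo i j) => X ((r : ℕ) : ZMod (2 * 8))) r ⟨h1, h2⟩ le_rfl) hg

theorem comm_of {S A B : Subgroup G} (h : ∀ a ∈ A, ∀ b ∈ B, ∃ c ∈ S, a * b = b * a * c) : ⁅A, B⁆ ≤ S := by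
  rw [Subgroup.commutator_le]
  intro a ha b hb
  obtain ⟨c, hc, e⟩ := h a⁻¹ (inv_mem ha) b⁻¹ (inv_mem hb)
  have e1 : ⁅a, b⁆ = c := by
    rw [commutatorElement_def]
    have e2 : c = (b⁻¹ * a⁻¹)⁻¹ * (a⁻¹ * b⁻¹) := by rw [e]; group
    rw [e2]; group
  rw [e1]; exact hc

theorem as2 {a b c d : G} (h : a = b * c * d) : a = b * (c * d) := by rw [h, mul_assoc]

theorem as3 {a b c d e : G} (h : a = b * c * d * e) : a = b * (c * d * e) := by
  rw [h]; simp only [mul_assoc]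

theorem as5 {a b c d e f g : G} (h : a = b * c * d * e * f * g) : a = b * (c * d * e * f * g) := by
  rw [h]; simp only [mul_assoc]

theorem as6 {a b c d e f g k : G} (h : a = b * c * d * e * f * g * k) : a = b * (c * d * e * f * g * k) := by
  rw [h]; simp only [mul_assoc]

variable (P : OctPar σ X x1 x3 x5 x7 x2 x4 x6 x8)

include P

theorem m1' (t : F) : x1 t ∈ X ((1 : ℕ) : ZMod (2 * 8)) := (P.mem1 _).2 ⟨t, rfl⟩
theorem m3' (t : F) : x3 t ∈ X ((3 : ℕ) : ZMod (2 * 8)) := (P.mem3 _).2 ⟨t, rfl⟩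
theorem m5' (t : F) : x5 t ∈ X ((5 : ℕ) : ZMod (2 * 8)) := (P.mem5 _).2 ⟨t, rfl⟩
theorem m7' (t : F) : x7 t ∈ X ((7 : ℕ) : ZMod (2 * 8)) := (P.mem7 _).2 ⟨t, rfl⟩
theorem m2' (t u : F) : x2 t u ∈ X ((2 : ℕ) : ZMod (2 * 8)) := (P.mem2 _).2 ⟨t, u, rfl⟩
theorem m4' (t u : F) : x4 t u ∈ X ((4 : ℕ) : ZMod (2 * 8)) := (P.mem4 _).2 ⟨t, u, rfl⟩
theorem m6' (t u : F) : x6 t u ∈ X ((6 : ℕ) : ZMod (2 * 8)) := (P.mem6 _).2 ⟨t, u, rfl⟩
theorem m8' (t u : F) : x8 t u ∈ X ((8 : ℕ) : ZMod (2 * 8)) := (P.mem8 _).2 ⟨t, u, rfl⟩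

/-- all positive commutators -/
theorem comm_pos (i j : ℕ) (hi : 1 ≤ i) (hij : i < j) (hj : j ≤ 8) :
    ⁅X ((i : ℕ) : ZMod (2 * 8)), X ((j : ℕ) : ZMod (2 * 8))⁆ ≤ btw X i j := by
  have h0 : ∀ (A : Subgroup G) (a b : G), a * b = b * a → ∃ c ∈ A, a * b = b * a * c :=
    fun A a b h => ⟨1, one_mem _, by rw [h, mul_one]⟩
  have l : ∀ (r : ℕ) {g : G}, g ∈ X ((r : ℕ) : ZMod (2 * 8)) → i < r → r < j → g ∈ btw X i j :=
    fun r g hg h1 h2 => le_btw r h1 h2 hg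
  apply comm_of
  intro a ha b hb
  have a1 := m1' P; have a2 := m2' P; have a3 := m3' P; have a4 := m4' P
  have a5 := m5' P; have a6 := m6' P; have a7 := m7' P; have a8 := m8' P
  have hi7 : i ≤ 7 := by omega
  interval_cases i
  · obtain ⟨t, rfl⟩ := (P.mem1 _).1 ha
    interval_cases j
    · obtain ⟨q, v, rfl⟩ := (P.mem2 _).1 hb
      exact h0 _ _ _ (P.r12 t q v)
    · obtain ⟨s, rfl⟩ := (P.mem3 _).1 hb
      exact h0 _ _ _ (P.r13 t s)
    · obtain ⟨q, v, rfl⟩ := (P.mem4 _).1 hb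
      exact ⟨_, l 2 (a2 _ _) (by norm_num) (by norm_num), P.r14 t q v⟩
    · obtain ⟨s, rfl⟩ := (P.mem5 _).1 hb
      exact h0 _ _ _ (P.r15 t s)
    · obtain ⟨q, v, rfl⟩ := (P.mem6 _).1 hb
      exact ⟨_, mul_mem (mul_mem (l 2 (a2 _ _) (by norm_num) (by norm_num))
        (l 3 (a3 _) (by norm_num) (by norm_num))) (l 4 (a4 _ _) (by norm_num) (by norm_num)), as3 (P.r16 t q v)⟩
    · obtain ⟨s, rfl⟩ := (P.mem7 _).1 hb
      exact ⟨_, mul_mem (l 3 (a3 _) (by norm_num) (by norm_num)) (l 5 (a5 _) (by norm_num) (by norm_num)), as2 (P.r17 t s)⟩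
    · obtain ⟨q, v, rfl⟩ := (P.mem8 _).1 hb
      exact ⟨_, mul_mem (mul_mem (mul_mem (mul_mem (mul_mem (l 2 (a2 _ _) (by norm_num) (by norm_num))
        (l 3 (a3 _) (by norm_num) (by norm_num))) (l 4 (a4 _ _) (by norm_num) (by norm_num)))
        (l 5 (a5 _) (by norm_num) (by norm_num))) (l 6 (a6 _ _) (by norm_num) (by norm_num)))
        (l 7 (a7 _) (by norm_num) (by norm_num)), as6 (P.r18 t q v)⟩
  · obtain ⟨p, u, rfl⟩ := (P.mem2 _).1 ha
    interval_cases j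
    · obtain ⟨s, rfl⟩ := (P.mem3 _).1 hb
      exact h0 _ _ _ (P.r23 p u s)
    · obtain ⟨q, v, rfl⟩ := (P.mem4 _).1 hb
      exact ⟨_, l 3 (a3 _) (by norm_num) (by norm_num), P.r24 p u q v⟩
    · obtain ⟨s, rfl⟩ := (P.mem5 _).1 hb
      exact ⟨_, l 4 (a4 _ _) (by norm_num) (by norm_num), P.r25 p u s⟩
    · obtain ⟨q, v, rfl⟩ := (P.mem6 _).1 hb
      exact h0 _ _ _ (P.r26 p u q v)
    · obtain ⟨s, rfl⟩ := (P.mem7 _).1 hb
      exact ⟨_, mul_mem (mul_mem (l 4 (a4 _ _) (by norm_num) (by norm_num))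
        (l 5 (a5 _) (by norm_num) (by norm_num))) (l 6 (a6 _ _) (by norm_num) (by norm_num)), as3 (P.r27 p u s)⟩
    · obtain ⟨q, v, rfl⟩ := (P.mem8 _).1 hb
      exact ⟨_, mul_mem (mul_mem (mul_mem (mul_mem (l 3 (a3 _) (by norm_num) (by norm_num))
        (l 4 (a4 _ _) (by norm_num) (by norm_num)))
        (l 5 (a5 _) (by norm_num) (by norm_num))) (l 6 (a6 _ _) (by norm_num) (by norm_num)))
        (l 7 (a7 _) (by norm_num) (by norm_num)), as5 (P.r28 p u q v)⟩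
  · obtain ⟨t, rfl⟩ := (P.mem3 _).1 ha
    interval_cases j
    · obtain ⟨q, v, rfl⟩ := (P.mem4 _).1 hb
      exact h0 _ _ _ (P.r34 t q v)
    · obtain ⟨s, rfl⟩ := (P.mem5 _).1 hb
      exact h0 _ _ _ (P.r35 t s)
    · obtain ⟨q, v, rfl⟩ := (P.mem6 _).1 hb
      exact ⟨_, l 4 (a4 _ _) (by norm_num) (by norm_num), P.r36 t q v⟩
    · obtain ⟨s, rfl⟩ := (P.mem7 _).1 hb
      exact h0 _ _ _ (P.r37 t s)
    · obtain ⟨q, v, rfl⟩ := (P.mem8 _).1 hb
      exact ⟨_, mul_mem (mul_mem (l 4 (a4 _ _) (by norm_num) (by norm_num))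
        (l 5 (a5 _) (by norm_num) (by norm_num))) (l 6 (a6 _ _) (by norm_num) (by norm_num)), as3 (P.r38 t q v)⟩
  · obtain ⟨p, u, rfl⟩ := (P.mem4 _).1 ha
    interval_cases j
    · obtain ⟨s, rfl⟩ := (P.mem5 _).1 hb
      exact h0 _ _ _ (P.r45 p u s)
    · obtain ⟨q, v, rfl⟩ := (P.mem6 _).1 hb
      exact ⟨_, l 5 (a5 _) (by norm_num) (by norm_num), P.r46 p u q v⟩
    · obtain ⟨s, rfl⟩ := (P.mem7 _).1 hb
      exact ⟨_, l 6 (a6 _ _) (by norm_num) (by norm_num), P.r47 p u s⟩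
    · obtain ⟨q, v, rfl⟩ := (P.mem8 _).1 hb
      exact h0 _ _ _ (P.r48 p u q v)
  · obtain ⟨t, rfl⟩ := (P.mem5 _).1 ha
    interval_cases j
    · obtain ⟨q, v, rfl⟩ := (P.mem6 _).1 hb
      exact h0 _ _ _ (P.r56 t q v)
    · obtain ⟨s, rfl⟩ := (P.mem7 _).1 hb
      exact h0 _ _ _ (P.r57 t s)
    · obtain ⟨q, v, rfl⟩ := (P.mem8 _).1 hb
      exact ⟨_, l 6 (a6 _ _) (by norm_num) (by norm_num), P.r58 t q v⟩
  · obtain ⟨p, u, rfl⟩ := (P.mem6 _).1 ha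
    interval_cases j
    · obtain ⟨s, rfl⟩ := (P.mem7 _).1 hb
      exact h0 _ _ _ (P.r67 p u s)
    · obtain ⟨q, v, rfl⟩ := (P.mem8 _).1 hb
      exact ⟨_, l 7 (a7 _) (by norm_num) (by norm_num), P.r68 p u q v⟩
  · obtain ⟨t, rfl⟩ := (P.mem7 _).1 ha
    interval_cases j
    · obtain ⟨q, v, rfl⟩ := (P.mem8 _).1 hb
      exact h0 _ _ _ (P.r78 t q v)

end abstract

/-! ### transport -/

section transport

variable {G : Type*} [Group G] {X : ZMod (2 * 8) → Subgroup G}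

theorem map_conj {w : G} {f : ZMod (2 * 8) → ZMod (2 * 8)} (hw : Maps X w f) (i : ZMod (2 * 8)) :
    (X i).map (MulAut.conj w).toMonoidHom = X (f i) := by
  ext y
  constructor
  · rintro ⟨x, hx, rfl⟩
    exact (hw i x).2 hx
  · intro hy
    refine ⟨w⁻¹ * y * w, (hw i _).1 ?_, ?_⟩
    · have : w * (w⁻¹ * y * w) * w⁻¹ = y := by group
      rw [this]; exact hy
    · show w * (w⁻¹ * y * w) * w⁻¹ = y
      group

/-- the commutator statement -/
def CommP (X : ZMod (2 * 8) → Subgroup G) (i : ZMod (2 * 8)) (k : ℕ) : Prop :=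
  ⁅X i, X (i + (k : ZMod (2 * 8)))⁆ ≤ ⨆ r ∈ Set.Ioo 0 k, X (i + ((r : ℕ) : ZMod (2 * 8)))

theorem CommP.map {w : G} {f : ZMod (2 * 8) → ZMod (2 * 8)} (hw : Maps X w f) {i : ZMod (2 * 8)} {k : ℕ}
    (h : CommP X i k) :
    ⁅X (f i), X (f (i + (k : ZMod (2 * 8))))⁆ ≤ ⨆ r ∈ Set.Ioo 0 k, X (f (i + ((r : ℕ) : ZMod (2 * 8)))) := by
  have h1 := Subgroup.map_mono (f := (MulAut.conj w).toMonoidHom) h
  rw [Subgroup.map_commutator, map_conj hw, map_conj hw, Subgroup.map_iSup] at h1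
  refine h1.trans (iSup_le fun r => ?_)
  rw [Subgroup.map_iSup]
  refine iSup_le fun hr => ?_
  rw [map_conj hw]
  exact le_iSup₂_of_le (f := fun (r : ℕ) (_ : r ∈ Set.Ioo 0 k) => X (f (i + ((r : ℕ) : ZMod (2 * 8))))) r hr le_rfl

theorem CommP.rot {w : G} {c : ZMod (2 * 8)} (hw : Maps X w (fun k => c + k)) {i : ZMod (2 * 8)} {k : ℕ}
    (h : CommP X i k) : CommP X (c + i) k := by
  have h1 := h.map hw
  simp only [← add_assoc] at h1
  exact h1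

theorem CommP.refl {w : G} {c : ZMod (2 * 8)} (hw : Maps X w (fun k => c - k)) {i : ZMod (2 * 8)} {k : ℕ}
    (h : CommP X i k) : CommP X (c - i - k) k := by
  have h1 := h.map hw
  unfold CommP
  rw [Subgroup.commutator_comm]
  have e1 : c - i - (k : ZMod (2 * 8)) + k = c - i := by ring
  have e2 : c - (i + (k : ZMod (2 * 8))) = c - i - k := by ring
  simp only [e2] at h1
  rw [e1]
  refine h1.trans (iSup₂_le fun r hr => ?_)
  have hr1 := hr.1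
  have hr2 := hr.2
  have e3 : c - (i + ((r : ℕ) : ZMod (2 * 8))) = c - i - (k : ZMod (2 * 8)) + ((k - r : ℕ) : ZMod (2 * 8)) := by
    rw [Nat.cast_sub (by omega)]; ring
  rw [e3]
  exact le_iSup₂_of_le (f := fun (r : ℕ) (_ : r ∈ Set.Ioo 0 k) => X (c - i - (k : ZMod (2 * 8)) + ((r : ℕ) : ZMod (2 * 8))))
    (k - r) ⟨by omega, by omega⟩ le_rfl

theorem inter_map {w : G} {f : ZMod (2 * 8) → ZMod (2 * 8)} (hw : Maps X w f) {i : ZMod (2 * 8)}
    {g : ℕ → ZMod (2 * 8)} (h : X i ⊓ (⨆ r ∈ Set.Ioo 0 8, X (g r)) = ⊥) :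
    X (f i) ⊓ (⨆ r ∈ Set.Ioo 0 8, X (f (g r))) = ⊥ := by
  have e1 : (⨆ r ∈ Set.Ioo 0 8, X (f (g r))) = (⨆ r ∈ Set.Ioo 0 8, X (g r)).map (MulAut.conj w).toMonoidHom := by
    rw [Subgroup.map_iSup]
    refine iSup_congr fun r => ?_
    rw [Subgroup.map_iSup]
    refine iSup_congr fun hr => ?_
    rw [map_conj hw]
  rw [e1, ← map_conj hw, ← Subgroup.map_inf _ _ _ (MulEquiv.injective (MulAut.conj w)), h, Subgroup.map_bot]

end transport

section inst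

variable {K : Type*} [Field K] [CharP K 2] [Finite K] {φ : K →+* K} {e : ℕ} (hφ : Rln φ e)

/-- the rotation by two steps -/
def rot : ↥(twistedF4 K e) := m1 K e * m2 hφ

theorem maps_rot : Maps (XX K e) (rot hφ) (fun k => 2 + k) :=
  (maps_m1.mul (maps_m2 hφ)).congr (fun k => by simp only [Function.comp]; ring)

theorem maps_rot_pow (j : ℕ) : Maps (XX K e) (rot hφ ^ j) (fun k => 2 * (j : ZMod (2 * 8)) + k) := by
  induction j with
  | zero => exact Maps.one.congr (fun k => by simp)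
  | succ j ih =>
    rw [pow_succ]
    exact (ih.mul (maps_rot hφ)).congr (fun k => by simp only [Function.comp]; push_cast; ring)

theorem maps_refl (j : ℕ) : Maps (XX K e) (rot hφ ^ j * m2 hφ) (fun k => (2 * (j : ZMod (2 * 8)) + 8) - k) :=
  ((maps_rot_pow hφ j).mul (maps_m2 hφ)).congr (fun k => by simp only [Function.comp]; ring)

theorem parity : ∀ i : ZMod (2 * 8), (∃ j < 8, i = 2 * ((j : ℕ) : ZMod (2 * 8)) + 1) ∨
    (∃ j < 8, i = 2 * ((j : ℕ) : ZMod (2 * 8))) := by decide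

theorem parity' : ∀ i : ZMod (2 * 8), (∃ j < 8, 2 * ((j : ℕ) : ZMod (2 * 8)) + i = 9) ∨
    (∃ j < 8, 2 * ((j : ℕ) : ZMod (2 * 8)) + i = 0) := by decide

include hφ in
theorem commP (i : ZMod (2 * 8)) (k : ℕ) (h1 : 1 ≤ k) (h2 : k < 8) : CommP (XX K e) i k := by
  have base : ∀ a b : ℕ, 1 ≤ a → a < b → b ≤ 8 → CommP (XX K e) (a : ZMod (2 * 8)) (b - a) := by
    intro a b ha hab hb
    have h := comm_pos (octPar hφ) a b ha hab hb
    unfold CommP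
    have e1 : (a : ZMod (2 * 8)) + ((b - a : ℕ) : ZMod (2 * 8)) = (b : ZMod (2 * 8)) := by
      rw [← Nat.cast_add]; congr 1; omega
    rw [e1]
    refine h.trans (iSup₂_le fun r hr => ?_)
    have hr1 := hr.1
    have hr2 := hr.2
    have e2 : ((r : ℕ) : ZMod (2 * 8)) = (a : ZMod (2 * 8)) + ((r - a : ℕ) : ZMod (2 * 8)) := by
      rw [← Nat.cast_add]; congr 1; omega
    rw [e2]
    exact le_iSup₂_of_le (f := fun (r : ℕ) (_ : r ∈ Set.Ioo 0 (b - a)) =>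
      XX K e ((a : ZMod (2 * 8)) + ((r : ℕ) : ZMod (2 * 8)))) (r - a) ⟨by omega, by omega⟩ le_rfl
  rcases parity i with ⟨j, _, rfl⟩ | ⟨j, _, rfl⟩
  · have h := base 1 (1 + k) le_rfl (by omega) (by omega)
    rw [Nat.add_sub_cancel_left] at h
    have h3 := h.rot (maps_rot_pow hφ j)
    rw [Nat.cast_one] at h3
    exact h3
  · have h := base (8 - k) 8 (by omega) (by omega) le_rfl
    have e0 : 8 - (8 - k) = k := by omega
    rw [e0] at h
    have h3 := h.refl (maps_refl hφ j)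
    have e1 : 2 * (j : ZMod (2 * 8)) + 8 - ((8 - k : ℕ) : ZMod (2 * 8)) - (k : ZMod (2 * 8)) =
        2 * (j : ZMod (2 * 8)) := by
      rw [Nat.cast_sub (by omega)]; push_cast; ring
    rw [e1] at h3
    exact h3

theorem inter1 : XX K e 1 ⊓ (⨆ r ∈ Set.Ioo 0 8, XX K e (1 + ((r : ℕ) : ZMod (2 * 8)))) = ⊥ := by
  rw [eq_bot_iff]
  rintro x ⟨hx1, hx2⟩
  have h1 : (⨆ r ∈ Set.Ioo 0 8, XX K e (1 + ((r : ℕ) : ZMod (2 * 8)))) ≤
      (GA K (geB 2)).subgroupOf (twistedF4 K e) := by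
    refine iSup₂_le fun r hr => ?_
    have hr1 := hr.1
    have hr2 := hr.2
    have e1 : rep (1 + ((r : ℕ) : ZMod (2 * 8))) = 1 + r := by interval_cases r <;> decide
    unfold XX
    rw [e1]
    intro y hy
    refine GA_mono (fun s hs h => ?_) hy
    have h1 : cls s = 1 + r := of_decide_eq_true h
    have h2 := cls_pos (k := 1 + r) (by omega) s hs h
    unfold geB
    rw [Bool.and_eq_true]
    exact ⟨decide_eq_true h2, decide_eq_true (by omega)⟩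
  have h2 : (x : GL chevF4.Idx K) ∈ GA K (geB 2) := h1 hx2
  have h3 : (x : GL chevF4.Idx K) ∈ GA K (clsB 1) := hx1
  have h4 := n1_ge2 _ h2
  have h5 := n1_1_9 _ h3
  have h6 := borel_inf_negB _ (U_le_borel h4) (neg_le_neg' (cls_neg (by norm_num)) h5)
  rw [Subgroup.mem_bot]
  apply Subtype.ext
  have h7 : (x : GL chevF4.Idx K) = (n1 K)⁻¹ * (n1 K * (x : GL chevF4.Idx K) * (n1 K)⁻¹) * n1 K := by group
  rw [h7, h6]
  simp

theorem inter8 : XX K e 8 ⊓ (⨆ r ∈ Set.Ioo 0 8, XX K e (8 - ((r : ℕ) : ZMod (2 * 8)))) = ⊥ := by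
  rw [eq_bot_iff]
  rintro x ⟨hx1, hx2⟩
  have h1 : (⨆ r ∈ Set.Ioo 0 8, XX K e (8 - ((r : ℕ) : ZMod (2 * 8)))) ≤
      (GA K (leB 7)).subgroupOf (twistedF4 K e) := by
    refine iSup₂_le fun r hr => ?_
    have hr1 := hr.1
    have hr2 := hr.2
    have e1 : rep (8 - ((r : ℕ) : ZMod (2 * 8))) = 8 - r := by interval_cases r <;> decide
    unfold XX
    rw [e1]
    intro y hy
    refine GA_mono (fun s hs h => ?_) hy
    have h1 : cls s = 8 - r := of_decide_eq_true h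
    have h2 := cls_pos (k := 8 - r) (by omega) s hs h
    unfold leB
    rw [Bool.and_eq_true]
    exact ⟨decide_eq_true h2, decide_eq_true (by omega)⟩
  have h2 : (x : GL chevF4.Idx K) ∈ GA K (leB 7) := h1 hx2
  have h3 : (x : GL chevF4.Idx K) ∈ GA K (clsB 8) := hx1
  have h4 := n2_le7 _ h2
  have h5 := n2_8_16 _ h3
  have h6 := borel_inf_negB _ (U_le_borel h4) (neg_le_neg' (cls_neg (by norm_num)) h5)
  rw [Subgroup.mem_bot]
  apply Subtype.ext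
  have h7 : (x : GL chevF4.Idx K) = (n2 K)⁻¹ * (n2 K * (x : GL chevF4.Idx K) * (n2 K)⁻¹) * n2 K := by group
  rw [h7, h6]
  simp

include hφ in
theorem inter (i : ZMod (2 * 8)) :
    XX K e i ⊓ (⨆ r ∈ Set.Ioo 0 8, XX K e (i + ((r : ℕ) : ZMod (2 * 8)))) = ⊥ := by
  rcases parity i with ⟨j, _, rfl⟩ | ⟨j, _, rfl⟩
  · have h := inter_map (maps_rot_pow hφ j) (inter1 (K := K) (e := e))
    simp only [← add_assoc] at h
    exact h
  · have h := inter_map (maps_refl hφ j) (inter8 (K := K) (e := e))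
    have e1 : ∀ r : ℕ, 2 * (j : ZMod (2 * 8)) + 8 - (8 - (r : ZMod (2 * 8))) = 2 * (j : ZMod (2 * 8)) + r :=
      fun r => by ring
    have e2 : 2 * (j : ZMod (2 * 8)) + 8 - 8 = 2 * (j : ZMod (2 * 8)) := by ring
    simp only [e1, e2] at h
    exact h

include hφ in
theorem mu9 (u : ↥(twistedF4 K e)) (hu : u ∈ XX K e 9) (h1 : u ≠ 1) :
    ∃ v ∈ XX K e 1, ∃ v' ∈ XX K e 1, Maps (XX K e) (v * u * v') (fun k => 10 - k) := by
  have e9 : rep 9 = 9 := by decide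
  have e1 : rep 1 = 1 := by decide
  have hu' : (u : GL chevF4.Idx K) ∈ GA K (clsB 9) := by
    have := mem_XX.1 hu
    rwa [e9] at this
  obtain ⟨x', hx', hx'G, h, hh, hhG, x, hx, hxG, e0⟩ := rank1 hφ u hu' u.2 (fun h => h1 (Subtype.ext h))
  refine ⟨⟨x', hx'G⟩⁻¹, inv_mem (mem_XX.2 (by rw [e1]; exact hx')), ⟨x, hxG⟩⁻¹,
    inv_mem (mem_XX.2 (by rw [e1]; exact hx)), ?_⟩
  have e2 : (⟨x', hx'G⟩ : ↥(twistedF4 K e))⁻¹ * u * (⟨x, hxG⟩ : ↥(twistedF4 K e))⁻¹ = ⟨h, hhG⟩ * m1 K e := by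
    apply Subtype.ext
    show x'⁻¹ * (u : GL chevF4.Idx K) * x⁻¹ = h * n1 K
    rw [e0]; group
  rw [e2]
  have hH : Maps (XX K e) (⟨h, hhG⟩ : ↥(twistedF4 K e)) id := by
    intro k x
    constructor
    · intro hx
      have h3 : h⁻¹ * (h * (x : GL chevF4.Idx K) * h⁻¹) * h⁻¹⁻¹ ∈ GA K (clsB (rep k)) :=
        H_norm_GA hHX (clsB (rep k)) h⁻¹ (inv_mem hh) _ hx
      have e3 : h⁻¹ * (h * (x : GL chevF4.Idx K) * h⁻¹) * h⁻¹⁻¹ = x := by group
      rw [e3] at h3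
      exact h3
    · intro hx
      exact H_norm_GA hHX (clsB (rep k)) h hh _ hx
  exact (hH.mul maps_m1).congr (fun k => rfl)

include hφ in
theorem mu0 (u : ↥(twistedF4 K e)) (hu : u ∈ XX K e 0) (h1 : u ≠ 1) :
    ∃ v ∈ XX K e 8, ∃ v' ∈ XX K e 8, Maps (XX K e) (v * u * v') (fun k => 8 - k) := by
  have e9 : rep 0 = 16 := by decide
  have e1 : rep 8 = 8 := by decide
  have hu' : (u : GL chevF4.Idx K) ∈ GA K (clsB 16) := by
    have := mem_XX.1 hu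
    rwa [e9] at this
  obtain ⟨x', hx', hx'G, h, hh, hhG, x, hx, hxG, e0⟩ := rank2 hφ u hu' u.2 (fun h => h1 (Subtype.ext h))
  refine ⟨⟨x', hx'G⟩⁻¹, inv_mem (mem_XX.2 (by rw [e1]; exact hx')), ⟨x, hxG⟩⁻¹,
    inv_mem (mem_XX.2 (by rw [e1]; exact hx)), ?_⟩
  have e2 : (⟨x', hx'G⟩ : ↥(twistedF4 K e))⁻¹ * u * (⟨x, hxG⟩ : ↥(twistedF4 K e))⁻¹ = ⟨h, hhG⟩ * m2 hφ := by
    apply Subtype.ext
    show x'⁻¹ * (u : GL chevF4.Idx K) * x⁻¹ = h * n2 K
    rw [e0]; group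
  rw [e2]
  have hH : Maps (XX K e) (⟨h, hhG⟩ : ↥(twistedF4 K e)) id := by
    intro k x
    constructor
    · intro hx
      have h3 : h⁻¹ * (h * (x : GL chevF4.Idx K) * h⁻¹) * h⁻¹⁻¹ ∈ GA K (clsB (rep k)) :=
        H_norm_GA hHX (clsB (rep k)) h⁻¹ (inv_mem hh) _ hx
      have e3 : h⁻¹ * (h * (x : GL chevF4.Idx K) * h⁻¹) * h⁻¹⁻¹ = x := by group
      rw [e3] at h3
      exact h3
    · intro hx
      exact H_norm_GA hHX (clsB (rep k)) h hh _ hx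
  exact (hH.mul (maps_m2 hφ)).congr (fun k => rfl)

include hφ in
theorem mu (i : ZMod (2 * 8)) (u : ↥(twistedF4 K e)) (hu : u ∈ XX K e i) (h1 : u ≠ 1) :
    ∃ v ∈ XX K e (i + 8), ∃ v' ∈ XX K e (i + 8), Maps (XX K e) (v * u * v') (fun k => 2 * i + 8 - k) := by
  have key : ∀ (j : ℕ) (a b : ZMod (2 * 8)), 2 * (j : ZMod (2 * 8)) + i = a → b = a + 8 →
      (∀ u ∈ XX K e a, u ≠ 1 → ∃ v ∈ XX K e b, ∃ v' ∈ XX K e b, Maps (XX K e) (v * u * v')
        (fun k => 2 * a + 8 - k)) →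
      ∃ v ∈ XX K e (i + 8), ∃ v' ∈ XX K e (i + 8), Maps (XX K e) (v * u * v') (fun k => 2 * i + 8 - k) := by
    intro j a b hja hab hbase
    have hw := maps_rot_pow hφ (K := K) (e := e) j
    set w := rot hφ ^ j
    have hu2 : w * u * w⁻¹ ∈ XX K e a := by
      rw [← hja]
      exact (hw i u).2 hu
    have hu3 : w * u * w⁻¹ ≠ 1 := by
      intro h
      apply h1
      have : u = w⁻¹ * (w * u * w⁻¹) * w := by group
      rw [this, h]; group
    obtain ⟨v, hv, v', hv', hm⟩ := hbase _ hu2 hu3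
    have hb : 2 * (j : ZMod (2 * 8)) + (i + 8) = b := by rw [hab, ← hja]; ring
    have t1 : ∀ v ∈ XX K e b, w⁻¹ * v * w ∈ XX K e (i + 8) := by
      intro v hv
      have h := (hw (i + 8) (w⁻¹ * v * w)).1
      apply h
      have e1 : w * (w⁻¹ * v * w) * w⁻¹ = v := by group
      rw [e1]
      show v ∈ XX K e (2 * (j : ZMod (2 * 8)) + (i + 8))
      rw [hb]
      exact hv
    refine ⟨w⁻¹ * v * w, t1 v hv, w⁻¹ * v' * w, t1 v' hv', ?_⟩
    have e1 : w⁻¹ * v * w * u * (w⁻¹ * v' * w) = w⁻¹ * (v * (w * u * w⁻¹) * v') * w := by group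
    rw [e1]
    have hwi : Maps (XX K e) w⁻¹ (fun k => k - 2 * (j : ZMod (2 * 8))) := hw.inv (fun k => by ring)
    refine ((hwi.mul hm).mul hw).congr (fun k => ?_)
    simp only [Function.comp]
    rw [← hja]
    ring
  rcases parity' i with ⟨j, _, hj⟩ | ⟨j, _, hj⟩
  · refine key j 9 1 hj (by decide) ?_
    intro u hu h1
    obtain ⟨v, hv, v', hv', h⟩ := mu9 hφ u hu h1
    exact ⟨v, hv, v', hv', h.congr (fun k => by
      have : (10 : ZMod (2 * 8)) = 2 * 9 + 8 := by decide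
      rw [this])⟩
  · refine key j 0 8 hj (by decide) ?_
    intro u hu h1
    obtain ⟨v, hv, v', hv', h⟩ := mu0 hφ u hu h1
    exact ⟨v, hv, v', hv', h.congr (fun k => by ring)⟩

include hφ in
theorem four : ∀ (i : ZMod (2 * 8)) (x : ↥(twistedF4 K e)), x ∈ XX K e i → x ^ 4 = 1 := by
  have P := octPar (K := K) hφ
  have t0 : ∀ t : K, t + t = 0 := fun t => CharTwo.add_self_eq_zero t
  have o1 : y1 (K := K) hφ 0 = 1 := by
    have h := P.m1 0 0
    rw [add_zero] at h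
    exact mul_left_cancel (h.trans (mul_one _).symm)
  have o8 : y8 (K := K) hφ 0 0 = 1 := by
    have h := P.m8 0 0 0 0
    simp only [add_zero, map_zero, mul_zero] at h
    exact mul_left_cancel (h.trans (mul_one _).symm)
  have b1 : ∀ x ∈ XX K e 1, x ^ 4 = 1 := by
    intro x hx
    obtain ⟨t, rfl⟩ := (P.mem1 x).1 hx
    have h : y1 hφ t * y1 hφ t = 1 := by rw [P.m1, t0, o1]
    calc y1 hφ t ^ 4 = (y1 hφ t * y1 hφ t) * (y1 hφ t * y1 hφ t) := by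
          rw [← pow_two, ← pow_two, ← pow_mul]
      _ = 1 := by rw [h, one_mul]
  have b8 : ∀ x ∈ XX K e 8, x ^ 4 = 1 := by
    intro x hx
    obtain ⟨p, u, rfl⟩ := (P.mem8 x).1 hx
    have h : y8 hφ p u * y8 hφ p u = y8 hφ 0 (p * φ p) := by rw [P.m8, t0, t0, zero_add]
    calc y8 hφ p u ^ 4 = (y8 hφ p u * y8 hφ p u) * (y8 hφ p u * y8 hφ p u) := by
          rw [← pow_two, ← pow_two, ← pow_mul]
      _ = 1 := by rw [h, P.m8, t0, t0, map_zero, mul_zero, add_zero, o8]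
  intro i x hx
  have key : ∀ (w : ↥(twistedF4 K e)) (a : ZMod (2 * 8)), (∀ x ∈ XX K e a, x ^ 4 = 1) →
      w * x * w⁻¹ ∈ XX K e a → x ^ 4 = 1 := by
    intro w a ha hw
    have h := ha _ hw
    rw [conj_pow] at h
    have e1 : x ^ 4 = w⁻¹ * (w * x ^ 4 * w⁻¹) * w := by group
    rw [e1, h]; group
  rcases parity' i with ⟨j, _, hj⟩ | ⟨j, _, hj⟩
  · have h1 := (maps_rot_pow hφ (K := K) (e := e) (j + 4) i x).2 hx
    have e1 : 2 * ((j + 4 : ℕ) : ZMod (2 * 8)) + i = 1 := by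
      push_cast
      have : (9 : ZMod (2 * 8)) + 8 = 1 := by decide
      rw [← this, ← hj]; ring
    exact key _ 1 b1 (by rw [← e1]; exact h1)
  · have h1 := (maps_rot_pow hφ (K := K) (e := e) (j + 4) i x).2 hx
    have e1 : 2 * ((j + 4 : ℕ) : ZMod (2 * 8)) + i = 8 := by
      push_cast
      have : (0 : ZMod (2 * 8)) + 8 = 8 := by decide
      rw [← this, ← hj]; ring
    exact key _ 8 b8 (by rw [← e1]; exact h1)

theorem gen : (⨆ i, XX K e i) = ⊤ := by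
  have h0 : twistedF4 K e ≤ (⨆ i, XX K e i).map (twistedF4 K e).subtype := by
    rw [twisted_le_iff]
    have h1 : ∀ (i : ZMod (2 * 8)) (g : GL chevF4.Idx K) (hg : g ∈ twistedF4 K e), g ∈ GA K (clsB (rep i)) →
        g ∈ (⨆ i, XX K e i).map (twistedF4 K e).subtype := by
      intro i g hg h
      exact ⟨⟨g, hg⟩, (le_iSup (XX K e) i) (mem_XX.2 h), rfl⟩
    refine ⟨fun t => h1 1 _ (xa_mem t) (xa_pos e t), fun t => h1 9 _ (xa_neg_mem t) (n1_1_9 _ (xa_pos e t)),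
      fun t u => h1 8 _ (xb_mem t u) (xb_pos e t u), fun t u => h1 0 _ (xb_neg_mem t u) (n2_8_16 _ (xb_pos e t u))⟩
  rw [eq_top_iff]
  intro g _
  obtain ⟨g', hg', e1⟩ := h0 g.2
  have : g' = g := Subtype.ext e1
  rw [← this]
  exact hg'

include hφ in
theorem ne_bot (i : ZMod (2 * 8)) : XX K e i ≠ ⊥ := by
  have P := octPar (K := K) hφ
  have b9 : XX K e 9 ≠ ⊥ := by
    intro h
    have h1 : (m1 K e * y1 hφ 1 * (m1 K e)⁻¹ : ↥(twistedF4 K e)) ∈ XX K e (10 - 1) :=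
      (maps_m1 1 _).2 ((memXX1 hφ _).2 ⟨1, rfl⟩)
    have e1 : (10 : ZMod (2 * 8)) - 1 = 9 := by decide
    rw [e1, h, Subgroup.mem_bot] at h1
    have h2 : y1 hφ (1 : K) = y1 hφ 0 := by
      have o1 : y1 (K := K) hφ 0 = 1 := by
        have h := P.m1 0 0
        rw [add_zero] at h
        exact mul_left_cancel (h.trans (mul_one _).symm)
      rw [o1]
      have e2 : y1 hφ (1 : K) = (m1 K e)⁻¹ * (m1 K e * y1 hφ 1 * (m1 K e)⁻¹) * m1 K e := by group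
      rw [e2, h1]; group
    exact one_ne_zero (inj_y1 hφ h2)
  have b0 : XX K e 0 ≠ ⊥ := by
    intro h
    have h1 : (m2 hφ * y8 hφ 1 0 * (m2 hφ)⁻¹ : ↥(twistedF4 K e)) ∈ XX K e (8 - 8) :=
      (maps_m2 hφ 8 _).2 ((memXX8 hφ _).2 ⟨1, 0, rfl⟩)
    have e1 : (8 : ZMod (2 * 8)) - 8 = 0 := by decide
    rw [e1, h, Subgroup.mem_bot] at h1
    have h2 : y8 hφ (1 : K) 0 = y8 hφ 0 0 := by
      have o8 : y8 (K := K) hφ 0 0 = 1 := by
        have h := P.m8 0 0 0 0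
        simp only [add_zero, map_zero, mul_zero] at h
        exact mul_left_cancel (h.trans (mul_one _).symm)
      rw [o8]
      have e2 : y8 hφ (1 : K) 0 = (m2 hφ)⁻¹ * (m2 hφ * y8 hφ 1 0 * (m2 hφ)⁻¹) * m2 hφ := by group
      rw [e2, h1]; group
    exact one_ne_zero (inj_y8 hφ _ _ _ _ h2).1
  intro h
  have key : ∀ (j : ℕ) (a : ZMod (2 * 8)), 2 * (j : ZMod (2 * 8)) + i = a → XX K e a = ⊥ := by
    intro j a hj
    rw [← hj, ← map_conj (maps_rot_pow hφ j) i, h, Subgroup.map_bot]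
  rcases parity' i with ⟨j, _, hj⟩ | ⟨j, _, hj⟩
  · exact b9 (key j 9 hj)
  · exact b0 (key j 0 hj)

/-- **The root group system of `²F₄`.** -/
def rootSys (hφ : Rln φ e) : RootSys 8 ↥(twistedF4 K e) where
  X := XX K e
  H := (chevF4.diagonalSubgroup K).subgroupOf (twistedF4 K e)
  two_lt := by norm_num
  ne_bot := ne_bot hφ
  comm := fun i k h1 h2 => commP hφ i k h1 h2
  inter := inter hφ
  mu := by
    intro i u hu h1
    obtain ⟨v, hv, v', hv', h⟩ := mu hφ i u hu h1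
    exact ⟨v, hv, v', hv', fun j x => h j x⟩
  gen := gen
  p := 2
  prime := Nat.prime_two
  isPGroup := by
    intro i g
    refine ⟨2, Subtype.ext ?_⟩
    have h := four hφ i g g.2
    rw [Subgroup.coe_pow]
    exact h
  H_conj := fun h hh i x hx => H_norm_GA hHX (clsB (rep i)) h hh _ hx

end inst

end Cfsg.Agent.Octagon.KRoot
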