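import Mathlib

/-!
# Coordinates of the Moufang octagon of type `²F₄` (S1144, m = 8)

`OctRel σ x1 x3 x5 x7 x2 x4 x6 x8`: `F` a field with an endomorphism `σ` (`σ σ = Frobenius` is field `sq`),
`x1, x3, x5, x7 : F → G` additive, `x2, x4, x6, x8 : F → F → G` with the Suzuki group law, and the commutator relations of
the positive root groups, in the form `a * b = b * a * c`, i.e. `c = a⁻¹ b⁻¹ a b`.
The family of the model (`Octagon/KRel.lean`) satisfies exactly these relations.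
-/

set_option autoImplicit false

namespace Cfsg.Agent.Octagon.Pkg

/-- The relations between the positive root elements of an octagon of type `²F₄`. -/
structure OctRel {F : Type*} [Field F] (σ : F →+* F) {G : Type*} [Group G] (x1 x3 x5 x7 : F → G)
    (x2 x4 x6 x8 : F → F → G) : Prop where
  m1 : ∀ t s : F, x1 t * x1 s = x1 (t + s)
  m3 : ∀ t s : F, x3 t * x3 s = x3 (t + s)
  m5 : ∀ t s : F, x5 t * x5 s = x5 (t + s)
  m7 : ∀ t s : F, x7 t * x7 s = x7 (t + s)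
  m2 : ∀ p u q v : F, x2 p u * x2 q v = x2 (p + q) (u + v + p * σ q)
  m4 : ∀ p u q v : F, x4 p u * x4 q v = x4 (p + q) (u + v + p * σ q)
  m6 : ∀ p u q v : F, x6 p u * x6 q v = x6 (p + q) (u + v + p * σ q)
  m8 : ∀ p u q v : F, x8 p u * x8 q v = x8 (p + q) (u + v + p * σ q)
  r12 : ∀ t q v : F, x1 t * x2 q v =
    x2 q v * x1 t
  r13 : ∀ t s : F, x1 t * x3 s =
    x3 s * x1 t
  r14 : ∀ t q v : F, x1 t * x4 q v =
    x4 q v * x1 t * x2 0 (t * q)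
  r15 : ∀ t s : F, x1 t * x5 s =
    x5 s * x1 t
  r16 : ∀ t q v : F, x1 t * x6 q v =
    x6 q v * x1 t * x2 0 (σ t * q) * x3 (t * σ q) * x4 0 (t * q * σ q + t * v)
  r17 : ∀ t s : F, x1 t * x7 s =
    x7 s * x1 t * x3 (σ t * s) * x5 (t * σ s)
  r18 : ∀ t q v : F, x1 t * x8 q v =
    x8 q v * x1 t * x2 (t * q) (t * σ t * q * σ q + t * σ t * v) * x3 (t * σ t * q * v + t * σ t * q * q * σ q + t * σ t * σ v) * x4 (σ t * q * σ q + σ t * v) (t * t * σ t * q * v * v + t * t * σ t * q * q * σ q * v + t * t * σ t * v * σ v) * x5 (t * σ t * σ q * σ v + t * σ t * q * q * σ q * σ q + t * σ t * v * v) * x6 (t * v) (t * σ t * q * v * v + t * σ t * q * σ q * σ v + t * σ t * q * q * q * σ q * σ q) * x7 (t * q * v + t * q * q * σ q + t * σ v)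
  r23 : ∀ p u s : F, x2 p u * x3 s =
    x3 s * x2 p u
  r24 : ∀ p u q v : F, x2 p u * x4 q v =
    x4 q v * x2 p u * x3 (p * q)
  r25 : ∀ p u s : F, x2 p u * x5 s =
    x5 s * x2 p u * x4 0 (p * s)
  r26 : ∀ p u q v : F, x2 p u * x6 q v =
    x6 q v * x2 p u
  r27 : ∀ p u s : F, x2 p u * x7 s =
    x7 s * x2 p u * x4 0 (p * σ p * s + u * s) * x5 (σ p * s) * x6 0 (p * σ s)
  r28 : ∀ p u q v : F, x2 p u * x8 q v =
    x8 q v * x2 p u * x3 (p * σ p * q + u * q) * x4 (σ p * q) (p * u * v + p * p * σ p * v + σ u * q * σ q + σ u * v) * x5 (u * v) * x6 (p * σ q) (p * σ p * q * q * σ q + p * σ p * σ v + u * q * v + u * q * q * σ q + u * σ v) * x7 (p * q * σ q + p * v)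
  r34 : ∀ t q v : F, x3 t * x4 q v =
    x4 q v * x3 t
  r35 : ∀ t s : F, x3 t * x5 s =
    x5 s * x3 t
  r36 : ∀ t q v : F, x3 t * x6 q v =
    x6 q v * x3 t * x4 0 (t * q)
  r37 : ∀ t s : F, x3 t * x7 s =
    x7 s * x3 t
  r38 : ∀ t q v : F, x3 t * x8 q v =
    x8 q v * x3 t * x4 0 (σ t * q) * x5 (t * σ q) * x6 0 (t * q * σ q + t * v)
  r45 : ∀ p u s : F, x4 p u * x5 s =
    x5 s * x4 p u
  r46 : ∀ p u q v : F, x4 p u * x6 q v =
    x6 q v * x4 p u * x5 (p * q)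
  r47 : ∀ p u s : F, x4 p u * x7 s =
    x7 s * x4 p u * x6 0 (p * s)
  r48 : ∀ p u q v : F, x4 p u * x8 q v =
    x8 q v * x4 p u
  r56 : ∀ t q v : F, x5 t * x6 q v =
    x6 q v * x5 t
  r57 : ∀ t s : F, x5 t * x7 s =
    x7 s * x5 t
  r58 : ∀ t q v : F, x5 t * x8 q v =
    x8 q v * x5 t * x6 0 (t * q)
  r67 : ∀ p u s : F, x6 p u * x7 s =
    x7 s * x6 p u
  r68 : ∀ p u q v : F, x6 p u * x8 q v =
    x8 q v * x6 p u * x7 (p * q)
  r78 : ∀ t q v : F, x7 t * x8 q v =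
    x8 q v * x7 t

/-- `x1, …, x8` are bijective parametrisations of `X 1, …, X 8` satisfying the relations of `OctRel`. -/
structure OctPar {F : Type*} [Field F] (σ : F →+* F) {G : Type*} [Group G] (X : ZMod (2 * 8) → Subgroup G)
    (x1 x3 x5 x7 : F → G) (x2 x4 x6 x8 : F → F → G) : Prop extends OctRel σ x1 x3 x5 x7 x2 x4 x6 x8 where
  mem1 : ∀ g, g ∈ X 1 ↔ ∃ t, x1 t = g
  mem3 : ∀ g, g ∈ X 3 ↔ ∃ t, x3 t = g
  mem5 : ∀ g, g ∈ X 5 ↔ ∃ t, x5 t = g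
  mem7 : ∀ g, g ∈ X 7 ↔ ∃ t, x7 t = g
  mem2 : ∀ g, g ∈ X 2 ↔ ∃ p u, x2 p u = g
  mem4 : ∀ g, g ∈ X 4 ↔ ∃ p u, x4 p u = g
  mem6 : ∀ g, g ∈ X 6 ↔ ∃ p u, x6 p u = g
  mem8 : ∀ g, g ∈ X 8 ↔ ∃ p u, x8 p u = g
  inj1 : Function.Injective x1
  inj3 : Function.Injective x3
  inj5 : Function.Injective x5
  inj7 : Function.Injective x7
  inj2 : ∀ p u q v, x2 p u = x2 q v → p = q ∧ u = v
  inj4 : ∀ p u q v, x4 p u = x4 q v → p = q ∧ u = v
  inj6 : ∀ p u q v, x6 p u = x6 q v → p = q ∧ u = v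
  inj8 : ∀ p u q v, x8 p u = x8 q v → p = q ∧ u = v

end Cfsg.Agent.Octagon.Pkg
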