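import Cfsg.Agent.ChevalleyStructure.TwF4.Rel

/-!
# Verified collection in the positive unipotent subgroup of `F₄` in characteristic two (K side of S1144, m = 8)

Polynomials over `𝔽₂` in variables `x₀, x₁, …` are lists of monomials, a monomial is a natural number whose digits
to the base 64 are the exponents.  `ins` multiplies a normal form by a root element from the left, `nf` computes the
normal form of a word of positive root elements with polynomial parameters.
-/

set_option autoImplicit false
set_option linter.unusedSectionVars false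

namespace Cfsg.Agent.Octagon.Coll

open Cfsg.Lie Cfsg.Agent.ChevalleyStructure.TwF4.Tables Cfsg.Agent.ChevalleyStructure.TwF4.Rel

/-- polynomials over the field with two elements -/
abbrev Poly := List ℕ

/-- all digits small -/
def okm : ℕ → ℕ → Bool
  | 0, m => m == 0
  | n + 1, m => Nat.blt (m % 64) 32 && okm n (m / 64)

/-- add a monomial -/
def tog (m : ℕ) : Poly → Poly
  | [] => [m]
  | a :: l => bif Nat.beq m a then l else bif Nat.blt m a then m :: a :: l else a :: tog m l

/-- sum -/
def addP (p q : Poly) : Poly := p.foldr tog q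

/-- monomial times polynomial -/
def mulM (m : ℕ) : Poly → Poly
  | [] => []
  | a :: l => tog (m + a) (mulM m l)

/-- product, without check -/
def mulP : Poly → Poly → Poly
  | [], _ => []
  | a :: l, q => addP (mulM a q) (mulP l q)

/-- all monomials are small -/
def okP (p : Poly) : Bool := p.all (okm 8)

/-- product with check -/
def mulC (p q : Poly) : Option Poly := bif okP p && okP q then some (mulP p q) else none

section eval

variable {K : Type*} [Field K]

/-- value of a monomial -/
def evM : List K → ℕ → K
  | [], _ => 1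
  | x :: xs, m => x ^ (m % 64) * evM xs (m / 64)

/-- value of a polynomial -/
def evP (xs : List K) : Poly → K
  | [] => 0
  | m :: l => evM xs m + evP xs l

theorem evM_add : ∀ (xs : List K) (n a b : ℕ), xs.length = n → okm n a = true → okm n b = true →
    evM xs (a + b) = evM xs a * evM xs b
  | [], n, a, b, _, _, _ => by simp [evM]
  | x :: xs, n, a, b, h, ha, hb => by
    cases n with
    | zero => simp at h
    | succ n =>
      rw [okm, Bool.and_eq_true] at ha hb
      have h1 : a % 64 < 32 := by simpa using ha.1
      have h2 : b % 64 < 32 := by simpa using hb.1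
      have e1 : (a + b) % 64 = a % 64 + b % 64 := by omega
      have e2 : (a + b) / 64 = a / 64 + b / 64 := by omega
      have ih := evM_add xs n (a / 64) (b / 64) (by simpa using h) ha.2 hb.2
      rw [evM, evM, evM, e1, e2, ih, pow_add]
      ring

variable [CharP K 2]

theorem evP_tog (xs : List K) (m : ℕ) : ∀ l : Poly, evP xs (tog m l) = evM xs m + evP xs l
  | [] => rfl
  | a :: l => by
    rw [tog]
    cases h : Nat.beq m a with
    | true =>
      have h' : m = a := Nat.eq_of_beq_eq_true h
      subst h'
      rw [cond_true, evP, ← add_assoc, CharTwo.add_self_eq_zero, zero_add]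
    | false =>
      cases h2 : Nat.blt m a with
      | true => rw [cond_false, cond_true, evP]
      | false =>
        rw [cond_false, cond_false, evP, evP_tog xs m l, evP]
        ring

theorem evP_add (xs : List K) (p q : Poly) : evP xs (addP p q) = evP xs p + evP xs q := by
  induction p with
  | nil => simp [addP, evP]
  | cons a p ih =>
    have : addP (a :: p) q = tog a (addP p q) := rfl
    rw [this, evP_tog, ih, evP, add_assoc]

theorem evP_mulM (xs : List K) (h : xs.length = 8) (m : ℕ) (hm : okm 8 m = true) :
    ∀ q : Poly, okP q = true → evP xs (mulM m q) = evM xs m * evP xs q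
  | [], _ => by simp [mulM, evP]
  | a :: q, hq => by
    rw [okP, List.all_cons, Bool.and_eq_true] at hq
    rw [mulM, evP_tog, evP_mulM xs h m hm q hq.2, evP, evM_add xs 8 m a h hm hq.1]
    ring

theorem evP_mulP (xs : List K) (h : xs.length = 8) (q : Poly) (hq : okP q = true) :
    ∀ p : Poly, okP p = true → evP xs (mulP p q) = evP xs p * evP xs q
  | [], _ => by simp [mulP, evP]
  | a :: p, hp => by
    rw [okP, List.all_cons, Bool.and_eq_true] at hp
    rw [mulP, evP_add, evP_mulM xs h a hp.1 q hq, evP_mulP xs h q hq p hp.2, evP]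
    ring

theorem evP_mulC (xs : List K) (h : xs.length = 8) {p q r : Poly} (hr : mulC p q = some r) :
    evP xs r = evP xs p * evP xs q := by
  rw [mulC] at hr
  cases h1 : okP p && okP q with
  | true =>
    rw [h1, cond_true] at hr
    rw [Bool.and_eq_true] at h1
    rw [← Option.some.inj hr, evP_mulP xs h q h1.2 p h1.1]
  | false =>
    rw [h1, cond_false] at hr
    exact absurd hr (by simp)

end eval

/-- `p ^ n * q` with check -/
def powMul (p : Poly) : ℕ → Poly → Option Poly
  | 0, q => some q
  | n + 1, q => (powMul p n q).bind (mulC p)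

/-- the parameter `p^a q^b` -/
def par (p q : Poly) (a b : ℕ) : Option Poly := (powMul q b [0]).bind (powMul p a)

/-- insert a root element on the left of a normal form (list of parameters of roots `s, s+1, …`) -/
def ins : ℕ → ℕ → Poly → ℕ → List Poly → Option (List Poly)
  | 0, _, _, _, _ => none
  | _ + 1, _, _, _, [] => none
  | n + 1, r, p, s, q :: l =>
    bif p.isEmpty then some (q :: l) else
    bif Nat.beq r s then some (addP p q :: l) else
    bif Nat.blt r s then none else
    (ins n r p (s + 1) l).bind fun l1 =>
    (bif q.isEmpty then some l1 else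
      (cm r s).foldr (fun c o => o.bind fun l2 => (par p q c.2.1 c.2.2).bind fun f => ins n c.1 f (s + 1) l2)
        (some l1)).bind fun l3 => some (q :: l3)

/-- normal form of a word -/
def nf (w : List (ℕ × Poly)) : Option (List Poly) :=
  w.foldr (fun c o => o.bind fun l => ins 50 c.1 c.2 24 l) (some (List.replicate 24 []))

section sound

variable {K : Type*} [Field K] [CharP K 2]

/-- the product of the normal form -/
def prodN (xs : List K) : ℕ → List Poly → GL chevF4.Idx K
  | _, [] => 1
  | s, q :: l => X s (evP xs q) * prodN xs (s + 1) l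

/-- letters `(k, a, b)` of commutators are positive roots and larger than both roots -/
theorem cm_ok : ((List.range 24).all fun r => (List.range 24).all fun s => (cm (24 + r) (24 + s)).all fun c =>
    (decide (24 + s < c.1) && decide (c.1 < 48))) = true := by decide +kernel

theorem powMul_sound (xs : List K) (h : xs.length = 8) (p : Poly) : ∀ (n : ℕ) (q r : Poly),
    powMul p n q = some r → evP xs r = evP xs p ^ n * evP xs q
  | 0, q, r, hr => by
    rw [powMul] at hr
    rw [← Option.some.inj hr]; simp
  | n + 1, q, r, hr => by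
    rw [powMul, Option.bind_eq_some_iff] at hr
    obtain ⟨r1, h1, h2⟩ := hr
    rw [evP_mulC xs h h2, powMul_sound xs h p n q r1 h1]
    ring

theorem evM_zero : ∀ xs : List K, evM xs 0 = 1
  | [] => rfl
  | x :: xs => by rw [evM, Nat.zero_div, evM_zero xs]; simp

theorem par_sound (xs : List K) (h : xs.length = 8) {p q r : Poly} {a b : ℕ} (hr : par p q a b = some r) :
    evP xs r = evP xs p ^ a * evP xs q ^ b := by
  rw [par, Option.bind_eq_some_iff] at hr
  obtain ⟨r1, h1, h2⟩ := hr
  rw [powMul_sound xs h p a _ _ h2, powMul_sound xs h q b _ _ h1, evP, evP, evM_zero]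
  ring

theorem ins_sound (xs : List K) (h : xs.length = 8) : ∀ (n r : ℕ) (p : Poly) (s : ℕ) (l l' : List Poly),
    24 ≤ s → r < 48 → ins n r p s l = some l' → X r (evP xs p) * prodN xs s l = prodN xs s l'
  | 0, r, p, s, l, l', _, _, hl => by rw [ins] at hl; exact absurd hl (by simp)
  | n + 1, r, p, s, [], l', _, _, hl => by rw [ins] at hl; exact absurd hl (by simp)
  | n + 1, r, p, s, q :: l, l', hs, hr, hl => by
    rw [ins] at hl
    cases h0 : p.isEmpty with
    | true =>
      rw [h0, cond_true] at hl
      rw [← Option.some.inj hl, List.isEmpty_iff.1 h0, evP, X_zero, one_mul]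
    | false =>
    rw [h0, cond_false] at hl
    cases h1 : Nat.beq r s with
    | true =>
      have h1' : r = s := Nat.eq_of_beq_eq_true h1
      rw [h1, cond_true] at hl
      rw [← Option.some.inj hl, prodN, prodN, evP_add, ← X_add, h1', mul_assoc]
    | false =>
    rw [h1, cond_false] at hl
    cases h2 : Nat.blt r s with
    | true =>
      rw [h2, cond_true] at hl
      exact absurd hl (by simp)
    | false =>
    rw [h2, cond_false] at hl
    have h1' : r ≠ s := by
      intro e
      rw [e, Nat.beq_refl] at h1
      exact absurd h1 (by simp)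
    have h2' : s < r := by
      have : ¬ r < s := by
        intro h3
        rw [← Nat.blt_eq] at h3
        rw [h3] at h2
        exact absurd h2 (by simp)
      omega
    rw [Option.bind_eq_some_iff] at hl
    obtain ⟨l1, e1, hl⟩ := hl
    rw [Option.bind_eq_some_iff] at hl
    obtain ⟨l3, e3, hl⟩ := hl
    have hl' := Option.some.inj hl
    rw [← hl', prodN, prodN]
    have i1 := ins_sound xs h n r p (s + 1) l l1 (by omega) hr e1
    cases hq : q.isEmpty with
    | true =>
      rw [hq, cond_true] at e3
      rw [← Option.some.inj e3, List.isEmpty_iff.1 hq, evP, X_zero, one_mul, one_mul, i1]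
    | false =>
    rw [hq, cond_false] at e3
    have hc : ∀ c ∈ cm r s, c.1 < 48 := by
      intro c hc
      have h3 := cm_ok
      rw [List.all_eq_true] at h3
      have h4 := h3 (r - 24) (List.mem_range.2 (by omega))
      rw [List.all_eq_true] at h4
      have h5 := h4 (s - 24) (List.mem_range.2 (by omega))
      rw [List.all_eq_true] at h5
      have a1 : 24 + (r - 24) = r := by omega
      have a2 : 24 + (s - 24) = s := by omega
      rw [a1, a2] at h5
      have h6 := h5 c hc
      rw [Bool.and_eq_true] at h6
      exact of_decide_eq_true h6.2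
    have key : ∀ (L : List (ℕ × ℕ × ℕ)), (∀ c ∈ L, c.1 < 48) → ∀ l3 : List Poly,
        L.foldr (fun c o => o.bind fun l2 => (par p q c.2.1 c.2.2).bind fun f => ins n c.1 f (s + 1) l2)
          (some l1) = some l3 →
        W (wordK (evP xs p) (evP xs q) L) * prodN xs (s + 1) l1 = prodN xs (s + 1) l3 := by
      intro L
      induction L with
      | nil =>
        intro _ l3 hl3
        rw [List.foldr_nil] at hl3
        rw [← Option.some.inj hl3]
        simp [wordK]
      | cons c L ih =>
        intro hL l3 hl3
        rw [List.foldr_cons, Option.bind_eq_some_iff] at hl3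
        obtain ⟨l4, h4, h5⟩ := hl3
        rw [Option.bind_eq_some_iff] at h5
        obtain ⟨f, hf, h6⟩ := h5
        have i2 := ih (fun c' hc' => hL c' (List.mem_cons_of_mem _ hc')) l4 h4
        have i3 := ins_sound xs h n c.1 f (s + 1) l4 l3 (by omega) (hL c List.mem_cons_self) h6
        have e : wordK (evP xs p) (evP xs q) (c :: L) =
            (c.1, evP xs p ^ c.2.1 * evP xs q ^ c.2.2) :: wordK (evP xs p) (evP xs q) L := rfl
        rw [e, W_cons, mul_assoc, i2, ← par_sound xs h hf, i3]
    have i2 := key _ hc l3 e3
    rw [← mul_assoc, comm_rel r s (by omega) hr hs (by omega) h1', mul_assoc, mul_assoc, i1, i2]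

theorem prodN_replicate (xs : List K) : ∀ (n s : ℕ), prodN xs s (List.replicate n []) = 1
  | 0, s => rfl
  | n + 1, s => by
    rw [List.replicate_succ, prodN, prodN_replicate xs n (s + 1), evP, X_zero, one_mul]

theorem nf_sound (xs : List K) (h : xs.length = 8) (w : List (ℕ × Poly)) (hw : ∀ c ∈ w, c.1 < 48) (l : List Poly)
    (hl : nf w = some l) : W (w.map fun c => (c.1, evP xs c.2)) = prodN xs 24 l := by
  induction w generalizing l with
  | nil =>
    rw [nf, List.foldr_nil] at hl
    rw [← Option.some.inj hl, prodN_replicate]; rfl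
  | cons c w ih =>
    rw [nf, List.foldr_cons, Option.bind_eq_some_iff] at hl
    obtain ⟨l1, h1, h2⟩ := hl
    have i := ih (fun c' hc' => hw c' (List.mem_cons_of_mem _ hc')) l1 h1
    rw [List.map_cons, W_cons, i]
    exact ins_sound xs h 50 c.1 c.2 24 l1 l le_rfl (hw c List.mem_cons_self) h2

end sound

/-! ### Expressions -/

/-- polynomial expressions in variables `y i`, `σ (y i)` -/
inductive Ex : Type
  | v : ℕ → Ex
  | w : ℕ → Ex
  | one : Ex
  | zero : Ex
  | add : Ex → Ex → Ex
  | mul : Ex → Ex → Ex

namespace Ex

/-- the polynomial of an expression -/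
def poly : Ex → Option Poly
  | v i => some [64 ^ (2 * i)]
  | w i => some [64 ^ (2 * i + 1)]
  | one => some [0]
  | zero => some []
  | add a b => a.poly.bind fun p => b.poly.bind fun q => some (addP p q)
  | mul a b => a.poly.bind fun p => b.poly.bind fun q => mulC p q

/-- only variables `0, 1, 2, 3` -/
def ok : Ex → Bool
  | v i => Nat.blt i 4
  | w i => Nat.blt i 4
  | one => true
  | zero => true
  | add a b => a.ok && b.ok
  | mul a b => a.ok && b.ok

/-- apply `σ` -/
def sg : Ex → Ex
  | v i => w i
  | w i => mul (v i) (v i)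
  | one => one
  | zero => zero
  | add a b => add a.sg b.sg
  | mul a b => mul a.sg b.sg

variable {K : Type*} [Field K]

/-- the value of an expression -/
def den (σ : K →+* K) (y : ℕ → K) : Ex → K
  | v i => y i
  | w i => σ (y i)
  | one => 1
  | zero => 0
  | add a b => a.den σ y + b.den σ y
  | mul a b => a.den σ y * b.den σ y

theorem den_sg (σ : K →+* K) (hσ : ∀ t, σ (σ t) = t ^ 2) (y : ℕ → K) : ∀ a : Ex, a.sg.den σ y = σ (a.den σ y)
  | v i => rfl
  | w i => by
    have h : (w i).den σ y = σ (y i) := rfl
    rw [h, hσ, pow_two]; rfl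
  | one => (map_one σ).symm
  | zero => (map_zero σ).symm
  | add a b => by
    have h : (add a b).den σ y = a.den σ y + b.den σ y := rfl
    rw [h, map_add, ← den_sg σ hσ y a, ← den_sg σ hσ y b]; rfl
  | mul a b => by
    have h : (mul a b).den σ y = a.den σ y * b.den σ y := rfl
    rw [h, map_mul, ← den_sg σ hσ y a, ← den_sg σ hσ y b]; rfl

/-- the list of values -/
def vals (σ : K →+* K) (y : ℕ → K) : List K := [y 0, σ (y 0), y 1, σ (y 1), y 2, σ (y 2), y 3, σ (y 3)]

theorem length_vals (σ : K →+* K) (y : ℕ → K) : (vals σ y).length = 8 := rfl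

theorem evM_var (σ : K →+* K) (y : ℕ → K) : ∀ i < 4, evM (vals σ y) (64 ^ (2 * i)) = y i ∧
    evM (vals σ y) (64 ^ (2 * i + 1)) = σ (y i) := by
  intro i hi
  interval_cases i <;> norm_num [vals, evM]

theorem den_eq [CharP K 2] (σ : K →+* K) (y : ℕ → K) : ∀ (a : Ex) (p : Poly), a.ok = true → a.poly = some p →
    a.den σ y = evP (vals σ y) p
  | v i, p, h, hp => by
    have h' : i < 4 := by rw [ok] at h; exact (Nat.blt_eq).mp h
    rw [poly] at hp
    rw [← Option.some.inj hp, evP, evP, (evM_var σ y i h').1, add_zero]; rfl
  | w i, p, h, hp => by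
    have h' : i < 4 := by rw [ok] at h; exact (Nat.blt_eq).mp h
    rw [poly] at hp
    rw [← Option.some.inj hp, evP, evP, (evM_var σ y i h').2, add_zero]; rfl
  | one, p, h, hp => by
    rw [poly] at hp
    rw [← Option.some.inj hp, evP, evP, evM_zero, add_zero]; rfl
  | zero, p, h, hp => by
    rw [poly] at hp
    rw [← Option.some.inj hp, evP]; rfl
  | add a b, p, h, hp => by
    rw [ok, Bool.and_eq_true] at h
    rw [poly, Option.bind_eq_some_iff] at hp
    obtain ⟨p1, h1, hp⟩ := hp
    rw [Option.bind_eq_some_iff] at hp
    obtain ⟨p2, h2, hp⟩ := hp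
    rw [← Option.some.inj hp, evP_add, ← den_eq σ y a p1 h.1 h1, ← den_eq σ y b p2 h.2 h2]; rfl
  | mul a b, p, h, hp => by
    rw [ok, Bool.and_eq_true] at h
    rw [poly, Option.bind_eq_some_iff] at hp
    obtain ⟨p1, h1, hp⟩ := hp
    rw [Option.bind_eq_some_iff] at hp
    obtain ⟨p2, h2, hp⟩ := hp
    rw [evP_mulC _ (length_vals σ y) hp, ← den_eq σ y a p1 h.1 h1, ← den_eq σ y b p2 h.2 h2]; rfl

end Ex

/-- words with expressions as parameters -/
def polyW : List (ℕ × Ex) → Option (List (ℕ × Poly))
  | [] => some []
  | c :: w => c.2.poly.bind fun p => (polyW w).bind fun l => some ((c.1, p) :: l)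

/-- normal form of a word with expressions -/
def nfE (w : List (ℕ × Ex)) : Option (List Poly) :=
  bif w.all (fun c => Nat.blt c.1 48 && c.2.ok) then (polyW w).bind nf else none

/-- boolean equality of normal forms -/
def eqL : List ℕ → List ℕ → Bool
  | [], [] => true
  | a :: l, b :: l' => Nat.beq a b && eqL l l'
  | _, _ => false

/-- boolean equality of normal forms -/
def eqLL : List (List ℕ) → List (List ℕ) → Bool
  | [], [] => true
  | a :: l, b :: l' => eqL a b && eqLL l l'
  | _, _ => false

theorem eq_of_eqL : ∀ l l' : List ℕ, eqL l l' = true → l = l'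
  | [], [], _ => rfl
  | a :: l, b :: l', h => by
    rw [eqL, Bool.and_eq_true] at h
    rw [Nat.eq_of_beq_eq_true h.1, eq_of_eqL l l' h.2]
  | [], b :: l', h => by simp [eqL] at h
  | a :: l, [], h => by simp [eqL] at h

theorem eq_of_eqLL : ∀ l l' : List (List ℕ), eqLL l l' = true → l = l'
  | [], [], _ => rfl
  | a :: l, b :: l', h => by
    rw [eqLL, Bool.and_eq_true] at h
    rw [eq_of_eqL _ _ h.1, eq_of_eqLL l l' h.2]
  | [], b :: l', h => by simp [eqLL] at h
  | a :: l, [], h => by simp [eqLL] at h

/-- the check -/
def chkE (w w' : List (ℕ × Ex)) : Bool :=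
  match nfE w, nfE w' with
  | some l, some l' => eqLL l l'
  | _, _ => false

section

variable {K : Type*} [Field K] [CharP K 2]

/-- the value of a word -/
def denW (σ : K →+* K) (y : ℕ → K) (w : List (ℕ × Ex)) : GL chevF4.Idx K :=
  W (w.map fun c => (c.1, c.2.den σ y))

theorem denW_nil (σ : K →+* K) (y : ℕ → K) : denW σ y [] = 1 := rfl

theorem denW_cons (σ : K →+* K) (y : ℕ → K) (c : ℕ × Ex) (w : List (ℕ × Ex)) :
    denW σ y (c :: w) = X c.1 (c.2.den σ y) * denW σ y w := by
  rw [denW, List.map_cons, W_cons]; rfl

theorem denW_append (σ : K →+* K) (y : ℕ → K) (w w' : List (ℕ × Ex)) :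
    denW σ y (w ++ w') = denW σ y w * denW σ y w' := by
  rw [denW, List.map_append, W_append]; rfl

theorem polyW_sound (σ : K →+* K) (y : ℕ → K) : ∀ (w : List (ℕ × Ex)) (l : List (ℕ × Poly)),
    (∀ c ∈ w, c.2.ok = true) → polyW w = some l →
    (w.map fun c => (c.1, c.2.den σ y)) = l.map fun c => (c.1, evP (Ex.vals σ y) c.2)
  | [], l, _, h => by
    rw [polyW] at h
    rw [← Option.some.inj h]; rfl
  | c :: w, l, hok, h => by
    rw [polyW, Option.bind_eq_some_iff] at h
    obtain ⟨p, hp, h⟩ := h
    rw [Option.bind_eq_some_iff] at h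
    obtain ⟨l1, hl, h⟩ := h
    rw [← Option.some.inj h, List.map_cons, List.map_cons,
      polyW_sound σ y w l1 (fun c' hc' => hok c' (List.mem_cons_of_mem _ hc')) hl,
      Ex.den_eq σ y c.2 p (hok c List.mem_cons_self) hp]

theorem polyW_fst : ∀ (w : List (ℕ × Ex)) (l : List (ℕ × Poly)), (∀ c ∈ w, c.1 < 48) → polyW w = some l →
    ∀ c ∈ l, c.1 < 48
  | [], l, _, h => by
    rw [polyW] at h
    rw [← Option.some.inj h]
    intro c hc
    simp at hc
  | c :: w, l, hok, h => by
    rw [polyW, Option.bind_eq_some_iff] at h
    obtain ⟨p, hp, h⟩ := h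
    rw [Option.bind_eq_some_iff] at h
    obtain ⟨l1, hl, h⟩ := h
    rw [← Option.some.inj h]
    intro c' hc'
    rcases List.mem_cons.1 hc' with h1 | h1
    · rw [h1]; exact hok c List.mem_cons_self
    · exact polyW_fst w l1 (fun c' hc' => hok c' (List.mem_cons_of_mem _ hc')) hl c' h1

theorem nfE_sound (σ : K →+* K) (y : ℕ → K) (w : List (ℕ × Ex)) (l : List Poly) (h : nfE w = some l) :
    denW σ y w = prodN (Ex.vals σ y) 24 l := by
  rw [nfE] at h
  cases h1 : w.all (fun c => Nat.blt c.1 48 && c.2.ok) with
  | false =>
    rw [h1, cond_false] at h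
    exact absurd h (by simp)
  | true =>
    rw [h1, cond_true, Option.bind_eq_some_iff] at h
    obtain ⟨l1, h2, h3⟩ := h
    rw [List.all_eq_true] at h1
    have a1 : ∀ c ∈ w, c.2.ok = true := fun c hc => by
      have := h1 c hc
      rw [Bool.and_eq_true] at this
      exact this.2
    have a2 : ∀ c ∈ w, c.1 < 48 := fun c hc => by
      have := h1 c hc
      rw [Bool.and_eq_true] at this
      exact (Nat.blt_eq).mp this.1
    rw [denW, polyW_sound σ y w l1 a1 h2]
    exact nf_sound _ (Ex.length_vals σ y) l1 (polyW_fst w l1 a2 h2) l h3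

/-- **Soundness of the check.** -/
theorem denW_eq_of_chkE (σ : K →+* K) (y : ℕ → K) (w w' : List (ℕ × Ex)) (h : chkE w w' = true) :
    denW σ y w = denW σ y w' := by
  rw [chkE] at h
  split at h
  · rename_i l l' h1 h2
    rw [nfE_sound σ y w l h1, nfE_sound σ y w' l' h2, eq_of_eqLL l l' h]
  · exact absurd h (by simp)

end

end Cfsg.Agent.Octagon.Coll
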