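import Cfsg.Agent.ChevalleyStructure.TwF4.TwistedFix
import Cfsg.Agent.Octagon.Pkg

/-!
# Finite fields with a square root of the Frobenius endomorphism (S1144, m = 8)

* `exists_rln` : `F` finite, `σ (σ t) = t²`: `|F| = 2^(2m+1)` and `σ` is the endomorphism of the model;
* `mapRing` : transport of `OctPar` along an isomorphism of fields.
-/

set_option autoImplicit false
set_option linter.unusedSimpArgs false

namespace Cfsg.Agent.Octagon.FieldAut171

open Cfsg.Agent.ChevalleyStructure.TwF4.TwistedFix Cfsg.Agent.Octagon.Pkg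

universe u

theorem charP_two {F : Type*} [Field F] (σ : F →+* F) (hσ : ∀ t, σ (σ t) = t ^ 2) : CharP F 2 := by
  have h1 := hσ (1 + 1)
  simp only [map_add, map_one] at h1
  have h2 : (2 : F) = 0 := by
    have h3 : (2 : F) * (2 - 1) = 0 := by linear_combination -h1
    rcases mul_eq_zero.1 h3 with h | h
    · exact h
    · exfalso
      have : (1 : F) = 0 := by linear_combination h
      exact one_ne_zero this
  exact CharTwo.of_one_ne_zero_of_two_eq_zero one_ne_zero h2

theorem exists_rln {F : Type*} [Field F] [Finite F] (σ : F →+* F) (hσ : ∀ t, σ (σ t) = t ^ 2) :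
    ∃ m : ℕ, Nat.card F = 2 ^ (2 * m + 1) ∧ Rln σ (2 ^ m) := by
  have := Fintype.ofFinite F
  have := charP_two σ hσ
  let := ZMod.algebra F 2
  have : Fact (Nat.Prime 2) := ⟨Nat.prime_two⟩
  set n := Module.finrank (ZMod 2) F with hn
  have hcard : Fintype.card F = 2 ^ n := by
    have h := Module.card_eq_pow_finrank (K := ZMod 2) (V := F)
    rwa [ZMod.card] at h
  have hn0 : 0 < n := Module.finrank_pos
  have hpow : ∀ (j : ℕ) (x : F), (FiniteField.frobeniusAlgHom (ZMod 2) F ^ j) x = x ^ 2 ^ j := by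
    intro j x
    rw [AlgHom.coe_pow, FiniteField.coe_frobeniusAlgHom, pow_iterate, ZMod.card]
  have hc : ∀ r : ZMod 2, σ (algebraMap (ZMod 2) F r) = algebraMap (ZMod 2) F r := fun r => by
    have : (σ.comp (algebraMap (ZMod 2) F)) = algebraMap (ZMod 2) F := Subsingleton.elim _ _
    exact congrArg (fun f : ZMod 2 →+* F => f r) this
  let τ : F →ₐ[ZMod 2] F := { σ with commutes' := hc }
  have hτ : ∀ x, τ x = σ x := fun x => rfl
  obtain ⟨⟨j, hj⟩, hj2⟩ := (FiniteField.bijective_frobeniusAlgHom_pow (ZMod 2) F).2 τ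
  have hσj : ∀ x, σ x = x ^ 2 ^ j := by
    intro x
    rw [← hτ, ← hj2]
    exact hpow j x
  have hfin : ∀ x : F, x ^ 2 ^ n = x := by
    intro x
    rw [← hcard]
    exact FiniteField.pow_card x
  by_cases h1 : n = 1
  · refine ⟨0, ?_, ?_, ?_, by norm_num⟩
    · rw [Nat.card_eq_fintype_card, hcard, h1]
    · intro x
      have hj0 : j = 0 := by omega
      rw [hσj, hj0, pow_zero, pow_one]
      have := hfin x
      rw [h1, pow_one] at this
      exact this.symm
    · intro x
      have hj0 : j = 0 := by omega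
      rw [hσj, hj0]
      norm_num
  · have h2 : (2 * j) % n = 1 := by
      have hlt : (2 * j) % n < n := Nat.mod_lt _ hn0
      have e1 : FiniteField.frobeniusAlgHom (ZMod 2) F ^ ((2 * j) % n) =
          FiniteField.frobeniusAlgHom (ZMod 2) F ^ 1 := by
        have e2 := pow_mod_orderOf (FiniteField.frobeniusAlgHom (ZMod 2) F) (2 * j)
        rw [FiniteField.orderOf_frobeniusAlgHom, ← hn] at e2
        rw [e2]
        apply AlgHom.ext
        intro x
        rw [hpow, hpow, pow_one, ← hσ x, hσj, hσj, ← pow_mul, ← pow_add, two_mul]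
      have e3 := (FiniteField.bijective_frobeniusAlgHom_pow (ZMod 2) F).1
        (a₁ := ⟨(2 * j) % n, hlt⟩) (a₂ := ⟨1, by omega⟩) e1
      exact congrArg Fin.val e3
    have h3 : 2 * j = n + 1 := by
      have hlt : 2 * j < 2 * n := by omega
      have h4 := Nat.div_add_mod (2 * j) n
      rw [h2] at h4
      have h5 : (2 * j) / n < 2 := by
        rw [Nat.div_lt_iff_lt_mul hn0]; exact hlt
      interval_cases (2 * j) / n
      · omega
      · omega
    obtain ⟨m, rfl⟩ : ∃ m, j = m + 1 := ⟨j - 1, by omega⟩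
    have hnm : n = 2 * m + 1 := by omega
    refine ⟨m, ?_, ?_, ?_, by positivity⟩
    · rw [Nat.card_eq_fintype_card, hcard, hnm]
    · intro x
      rw [hσj, ← pow_mul, pow_succ]
    · intro x
      rw [hσj, ← pow_mul, ← pow_add]
      have : m + (m + 1) = n := by omega
      rw [this, hfin]

section map

variable {F : Type*} {E : Type*} [Field F] [Field E] {σ : F →+* F} {G : Type*} [Group G]
  {X : ZMod (2 * 8) → Subgroup G} {x1 x3 x5 x7 : F → G} {x2 x4 x6 x8 : F → F → G}

/-- transport of the endomorphism -/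
def mapEnd (f : E ≃+* F) (σ : F →+* F) : E →+* E := (f.symm : F →+* E).comp (σ.comp (f : E →+* F))

theorem mapEnd_apply (f : E ≃+* F) (σ : F →+* F) (t : E) : f (mapEnd f σ t) = σ (f t) := by
  show f (f.symm (σ (f t))) = _
  rw [RingEquiv.apply_symm_apply]

theorem mapEnd_sq (f : E ≃+* F) (σ : F →+* F) (h : ∀ t, σ (σ t) = t ^ 2) (t : E) :
    mapEnd f σ (mapEnd f σ t) = t ^ 2 := by
  apply f.injective
  rw [mapEnd_apply, mapEnd_apply, h, map_pow]

/-- transport of `OctPar` along an isomorphism of fields -/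
theorem mapRing (f : E ≃+* F) (h : OctPar σ X x1 x3 x5 x7 x2 x4 x6 x8) :
    OctPar (mapEnd f σ) X (fun t => x1 (f t)) (fun t => x3 (f t)) (fun t => x5 (f t)) (fun t => x7 (f t))
      (fun t u => x2 (f t) (f u)) (fun t u => x4 (f t) (f u)) (fun t u => x6 (f t) (f u))
      (fun t u => x8 (f t) (f u)) where
  m1 t s := by
    try simp only [map_add, map_mul, map_zero, mapEnd_apply]
    exact h.m1 _ _
  m2 p u q v := by
    try simp only [map_add, map_mul, map_zero, mapEnd_apply]
    exact h.m2 _ _ _ _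
  m3 t s := by
    try simp only [map_add, map_mul, map_zero, mapEnd_apply]
    exact h.m3 _ _
  m4 p u q v := by
    try simp only [map_add, map_mul, map_zero, mapEnd_apply]
    exact h.m4 _ _ _ _
  m5 t s := by
    try simp only [map_add, map_mul, map_zero, mapEnd_apply]
    exact h.m5 _ _
  m6 p u q v := by
    try simp only [map_add, map_mul, map_zero, mapEnd_apply]
    exact h.m6 _ _ _ _
  m7 t s := by
    try simp only [map_add, map_mul, map_zero, mapEnd_apply]
    exact h.m7 _ _
  m8 p u q v := by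
    try simp only [map_add, map_mul, map_zero, mapEnd_apply]
    exact h.m8 _ _ _ _
  r12 t q v := by
    try simp only [map_add, map_mul, map_zero, mapEnd_apply]
    exact h.r12 _ _ _
  r13 t s := by
    try simp only [map_add, map_mul, map_zero, mapEnd_apply]
    exact h.r13 _ _
  r14 t q v := by
    try simp only [map_add, map_mul, map_zero, mapEnd_apply]
    exact h.r14 _ _ _
  r15 t s := by
    try simp only [map_add, map_mul, map_zero, mapEnd_apply]
    exact h.r15 _ _
  r16 t q v := by
    try simp only [map_add, map_mul, map_zero, mapEnd_apply]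
    exact h.r16 _ _ _
  r17 t s := by
    try simp only [map_add, map_mul, map_zero, mapEnd_apply]
    exact h.r17 _ _
  r18 t q v := by
    try simp only [map_add, map_mul, map_zero, mapEnd_apply]
    exact h.r18 _ _ _
  r23 p u s := by
    try simp only [map_add, map_mul, map_zero, mapEnd_apply]
    exact h.r23 _ _ _
  r24 p u q v := by
    try simp only [map_add, map_mul, map_zero, mapEnd_apply]
    exact h.r24 _ _ _ _
  r25 p u s := by
    try simp only [map_add, map_mul, map_zero, mapEnd_apply]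
    exact h.r25 _ _ _
  r26 p u q v := by
    try simp only [map_add, map_mul, map_zero, mapEnd_apply]
    exact h.r26 _ _ _ _
  r27 p u s := by
    try simp only [map_add, map_mul, map_zero, mapEnd_apply]
    exact h.r27 _ _ _
  r28 p u q v := by
    try simp only [map_add, map_mul, map_zero, mapEnd_apply]
    exact h.r28 _ _ _ _
  r34 t q v := by
    try simp only [map_add, map_mul, map_zero, mapEnd_apply]
    exact h.r34 _ _ _
  r35 t s := by
    try simp only [map_add, map_mul, map_zero, mapEnd_apply]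
    exact h.r35 _ _
  r36 t q v := by
    try simp only [map_add, map_mul, map_zero, mapEnd_apply]
    exact h.r36 _ _ _
  r37 t s := by
    try simp only [map_add, map_mul, map_zero, mapEnd_apply]
    exact h.r37 _ _
  r38 t q v := by
    try simp only [map_add, map_mul, map_zero, mapEnd_apply]
    exact h.r38 _ _ _
  r45 p u s := by
    try simp only [map_add, map_mul, map_zero, mapEnd_apply]
    exact h.r45 _ _ _
  r46 p u q v := by
    try simp only [map_add, map_mul, map_zero, mapEnd_apply]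
    exact h.r46 _ _ _ _
  r47 p u s := by
    try simp only [map_add, map_mul, map_zero, mapEnd_apply]
    exact h.r47 _ _ _
  r48 p u q v := by
    try simp only [map_add, map_mul, map_zero, mapEnd_apply]
    exact h.r48 _ _ _ _
  r56 t q v := by
    try simp only [map_add, map_mul, map_zero, mapEnd_apply]
    exact h.r56 _ _ _
  r57 t s := by
    try simp only [map_add, map_mul, map_zero, mapEnd_apply]
    exact h.r57 _ _
  r58 t q v := by
    try simp only [map_add, map_mul, map_zero, mapEnd_apply]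
    exact h.r58 _ _ _
  r67 p u s := by
    try simp only [map_add, map_mul, map_zero, mapEnd_apply]
    exact h.r67 _ _ _
  r68 p u q v := by
    try simp only [map_add, map_mul, map_zero, mapEnd_apply]
    exact h.r68 _ _ _ _
  r78 t q v := by
    try simp only [map_add, map_mul, map_zero, mapEnd_apply]
    exact h.r78 _ _ _
  mem1 g := (h.mem1 g).trans ⟨fun ⟨t, e⟩ => ⟨f.symm t, by rw [RingEquiv.apply_symm_apply]; exact e⟩, fun ⟨t, e⟩ => ⟨_, e⟩⟩
  mem3 g := (h.mem3 g).trans ⟨fun ⟨t, e⟩ => ⟨f.symm t, by rw [RingEquiv.apply_symm_apply]; exact e⟩, fun ⟨t, e⟩ => ⟨_, e⟩⟩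
  mem5 g := (h.mem5 g).trans ⟨fun ⟨t, e⟩ => ⟨f.symm t, by rw [RingEquiv.apply_symm_apply]; exact e⟩, fun ⟨t, e⟩ => ⟨_, e⟩⟩
  mem7 g := (h.mem7 g).trans ⟨fun ⟨t, e⟩ => ⟨f.symm t, by rw [RingEquiv.apply_symm_apply]; exact e⟩, fun ⟨t, e⟩ => ⟨_, e⟩⟩
  mem2 g := (h.mem2 g).trans ⟨fun ⟨t, u, e⟩ => ⟨f.symm t, f.symm u, by
    rw [RingEquiv.apply_symm_apply, RingEquiv.apply_symm_apply]; exact e⟩, fun ⟨t, u, e⟩ => ⟨_, _, e⟩⟩
  mem4 g := (h.mem4 g).trans ⟨fun ⟨t, u, e⟩ => ⟨f.symm t, f.symm u, by
    rw [RingEquiv.apply_symm_apply, RingEquiv.apply_symm_apply]; exact e⟩, fun ⟨t, u, e⟩ => ⟨_, _, e⟩⟩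
  mem6 g := (h.mem6 g).trans ⟨fun ⟨t, u, e⟩ => ⟨f.symm t, f.symm u, by
    rw [RingEquiv.apply_symm_apply, RingEquiv.apply_symm_apply]; exact e⟩, fun ⟨t, u, e⟩ => ⟨_, _, e⟩⟩
  mem8 g := (h.mem8 g).trans ⟨fun ⟨t, u, e⟩ => ⟨f.symm t, f.symm u, by
    rw [RingEquiv.apply_symm_apply, RingEquiv.apply_symm_apply]; exact e⟩, fun ⟨t, u, e⟩ => ⟨_, _, e⟩⟩
  inj1 a b e := f.injective (h.inj1 e)
  inj3 a b e := f.injective (h.inj3 e)
  inj5 a b e := f.injective (h.inj5 e)
  inj7 a b e := f.injective (h.inj7 e)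
  inj2 p u q v e := ⟨f.injective (h.inj2 _ _ _ _ e).1, f.injective (h.inj2 _ _ _ _ e).2⟩
  inj4 p u q v e := ⟨f.injective (h.inj4 _ _ _ _ e).1, f.injective (h.inj4 _ _ _ _ e).2⟩
  inj6 p u q v e := ⟨f.injective (h.inj6 _ _ _ _ e).1, f.injective (h.inj6 _ _ _ _ e).2⟩
  inj8 p u q v e := ⟨f.injective (h.inj8 _ _ _ _ e).1, f.injective (h.inj8 _ _ _ _ e).2⟩

end map

end Cfsg.Agent.Octagon.FieldAut171
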