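import Cfsg.Agent.Octagon.Pkg

/-!
# Octagonal systems in coordinates (S1144, m = 8)

* `comm_of_octPar` : the commutator relations of `RGDZ 8`;
* `OctRel.prod` : the product of two families.
-/

set_option autoImplicit false

namespace Cfsg.Agent.Octagon.Par

open Cfsg.Agent.Octagon.Pkg
open scoped commutatorElement

/-- The relations of an octagonal system in coordinates. -/
theorem rel {F : Type*} [Field F] {σ : F →+* F} {G : Type*} [Group G] {X : ZMod (2 * 8) → Subgroup G}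
    {x1 x3 x5 x7 : F → G} {x2 x4 x6 x8 : F → F → G} (h : OctPar σ X x1 x3 x5 x7 x2 x4 x6 x8) :
    OctRel σ x1 x3 x5 x7 x2 x4 x6 x8 := h.toOctRel

section comm

variable {F : Type*} [Field F] {σ : F →+* F} {G : Type*} [Group G]

theorem comm_eq {a b c : G} (h : a * b = b * a * c) : ⁅a⁻¹, b⁻¹⁆ = c := by
  rw [commutatorElement_def, inv_inv, inv_inv]
  calc a⁻¹ * b⁻¹ * a * b = a⁻¹ * b⁻¹ * (a * b) := by group
    _ = a⁻¹ * b⁻¹ * (b * a * c) := by rw [h]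
    _ = c := by group

theorem comm_eq_one {a b : G} (h : a * b = b * a) : ⁅a⁻¹, b⁻¹⁆ = 1 := by
  apply comm_eq
  rw [h, mul_one]

/-- The commutator relations of `RGDZ 8`. -/
theorem comm_of_octPar {X : ZMod (2 * 8) → Subgroup G} {x1 x3 x5 x7 : F → G} {x2 x4 x6 x8 : F → F → G}
    (h : OctPar σ X x1 x3 x5 x7 x2 x4 x6 x8) (k l : ℕ) (hk : 1 ≤ k) (hkl : k < l) (hl : l ≤ 8) (x : G)
    (hx : x ∈ X k) (y : G) (hy : y ∈ X l) :
    ⁅x, y⁆ ∈ ⨆ r ∈ Set.Ioo k l, X ((r : ℕ) : ZMod (2 * 8)) := by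
  have hin : ∀ r : ℕ, r ∈ Set.Ioo k l → ∀ g, g ∈ X ((r : ℕ) : ZMod (2 * 8)) →
      g ∈ ⨆ r ∈ Set.Ioo k l, X ((r : ℕ) : ZMod (2 * 8)) := fun r hr g hg =>
    Subgroup.mem_iSup_of_mem r (Subgroup.mem_iSup_of_mem hr hg)
  have m1 : ∀ g, g ∈ X ((1 : ℕ) : ZMod (2 * 8)) ↔ ∃ a, x1 a = g := fun g => by
    rw [Nat.cast_one]; exact h.mem1 g
  have m2 : ∀ g, g ∈ X ((2 : ℕ) : ZMod (2 * 8)) ↔ ∃ p u, x2 p u = g := fun g => h.mem2 g
  have m3 : ∀ g, g ∈ X ((3 : ℕ) : ZMod (2 * 8)) ↔ ∃ a, x3 a = g := fun g => h.mem3 g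
  have m4 : ∀ g, g ∈ X ((4 : ℕ) : ZMod (2 * 8)) ↔ ∃ p u, x4 p u = g := fun g => h.mem4 g
  have m5 : ∀ g, g ∈ X ((5 : ℕ) : ZMod (2 * 8)) ↔ ∃ a, x5 a = g := fun g => h.mem5 g
  have m6 : ∀ g, g ∈ X ((6 : ℕ) : ZMod (2 * 8)) ↔ ∃ p u, x6 p u = g := fun g => h.mem6 g
  have m7 : ∀ g, g ∈ X ((7 : ℕ) : ZMod (2 * 8)) ↔ ∃ a, x7 a = g := fun g => h.mem7 g
  have m8 : ∀ g, g ∈ X ((8 : ℕ) : ZMod (2 * 8)) ↔ ∃ p u, x8 p u = g := fun g => h.mem8 g
  have f2 : ∀ p u, (2 : ℕ) ∈ Set.Ioo k l → x2 p u ∈ ⨆ r ∈ Set.Ioo k l, X ((r : ℕ) : ZMod (2 * 8)) :=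
    fun p u hr => hin 2 hr _ ((m2 _).2 ⟨p, u, rfl⟩)
  have f3 : ∀ a, (3 : ℕ) ∈ Set.Ioo k l → x3 a ∈ ⨆ r ∈ Set.Ioo k l, X ((r : ℕ) : ZMod (2 * 8)) :=
    fun a hr => hin 3 hr _ ((m3 _).2 ⟨a, rfl⟩)
  have f4 : ∀ p u, (4 : ℕ) ∈ Set.Ioo k l → x4 p u ∈ ⨆ r ∈ Set.Ioo k l, X ((r : ℕ) : ZMod (2 * 8)) :=
    fun p u hr => hin 4 hr _ ((m4 _).2 ⟨p, u, rfl⟩)
  have f5 : ∀ a, (5 : ℕ) ∈ Set.Ioo k l → x5 a ∈ ⨆ r ∈ Set.Ioo k l, X ((r : ℕ) : ZMod (2 * 8)) :=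
    fun a hr => hin 5 hr _ ((m5 _).2 ⟨a, rfl⟩)
  have f6 : ∀ p u, (6 : ℕ) ∈ Set.Ioo k l → x6 p u ∈ ⨆ r ∈ Set.Ioo k l, X ((r : ℕ) : ZMod (2 * 8)) :=
    fun p u hr => hin 6 hr _ ((m6 _).2 ⟨p, u, rfl⟩)
  have f7 : ∀ a, (7 : ℕ) ∈ Set.Ioo k l → x7 a ∈ ⨆ r ∈ Set.Ioo k l, X ((r : ℕ) : ZMod (2 * 8)) :=
    fun a hr => hin 7 hr _ ((m7 _).2 ⟨a, rfl⟩)
  have hx' := inv_mem hx
  have hy' := inv_mem hy
  rw [← inv_inv x, ← inv_inv y]
  clear hx hy
  generalize x⁻¹ = u at hx' ⊢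
  generalize y⁻¹ = v at hy' ⊢
  have hk7 : k ≤ 7 := by omega
  interval_cases k
  · rw [m1] at hx'
    obtain ⟨t, rfl⟩ := hx'
    interval_cases l
    · rw [m2] at hy'
      obtain ⟨q, v, rfl⟩ := hy'
      rw [comm_eq_one (h.r12 t q v)]
      exact one_mem _
    · rw [m3] at hy'
      obtain ⟨s, rfl⟩ := hy'
      rw [comm_eq_one (h.r13 t s)]
      exact one_mem _
    · rw [m4] at hy'
      obtain ⟨q, v, rfl⟩ := hy'
      rw [comm_eq (h.r14 t q v)]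
      exact f2 _ _ (by simp)
    · rw [m5] at hy'
      obtain ⟨s, rfl⟩ := hy'
      rw [comm_eq_one (h.r15 t s)]
      exact one_mem _
    · rw [m6] at hy'
      obtain ⟨q, v, rfl⟩ := hy'
      rw [comm_eq (c := x2 0 (σ t * q) * (x3 (t * σ q) * x4 0 (t * q * σ q + t * v)))
        (by rw [h.r16 t q v]; group)]
      exact mul_mem (f2 _ _ (by simp)) (mul_mem (f3 _ (by simp)) (f4 _ _ (by simp)))
    · rw [m7] at hy'
      obtain ⟨s, rfl⟩ := hy'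
      rw [comm_eq (c := x3 (σ t * s) * x5 (t * σ s)) (by rw [h.r17 t s]; group)]
      exact mul_mem (f3 _ (by simp)) (f5 _ (by simp))
    · rw [m8] at hy'
      obtain ⟨q, v, rfl⟩ := hy'
      have e := h.r18 t q v
      simp only [mul_assoc (x8 q v * x1 t)] at e
      rw [comm_eq e]
      exact mul_mem (mul_mem (mul_mem (mul_mem (mul_mem (f2 _ _ (by simp)) (f3 _ (by simp)))
        (f4 _ _ (by simp))) (f5 _ (by simp))) (f6 _ _ (by simp))) (f7 _ (by simp))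
  · rw [m2] at hx'
    obtain ⟨p, u, rfl⟩ := hx'
    interval_cases l
    · rw [m3] at hy'
      obtain ⟨s, rfl⟩ := hy'
      rw [comm_eq_one (h.r23 p u s)]
      exact one_mem _
    · rw [m4] at hy'
      obtain ⟨q, v, rfl⟩ := hy'
      rw [comm_eq (h.r24 p u q v)]
      exact f3 _ (by simp)
    · rw [m5] at hy'
      obtain ⟨s, rfl⟩ := hy'
      rw [comm_eq (h.r25 p u s)]
      exact f4 _ _ (by simp)
    · rw [m6] at hy'
      obtain ⟨q, v, rfl⟩ := hy'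
      rw [comm_eq_one (h.r26 p u q v)]
      exact one_mem _
    · rw [m7] at hy'
      obtain ⟨s, rfl⟩ := hy'
      have e := h.r27 p u s
      simp only [mul_assoc (x7 s * x2 p u)] at e
      rw [comm_eq e]
      exact mul_mem (mul_mem (f4 _ _ (by simp)) (f5 _ (by simp))) (f6 _ _ (by simp))
    · rw [m8] at hy'
      obtain ⟨q, v, rfl⟩ := hy'
      have e := h.r28 p u q v
      simp only [mul_assoc (x8 q v * x2 p u)] at e
      rw [comm_eq e]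
      exact mul_mem (mul_mem (mul_mem (mul_mem (f3 _ (by simp)) (f4 _ _ (by simp)))
        (f5 _ (by simp))) (f6 _ _ (by simp))) (f7 _ (by simp))
  · rw [m3] at hx'
    obtain ⟨t, rfl⟩ := hx'
    interval_cases l
    · rw [m4] at hy'
      obtain ⟨q, v, rfl⟩ := hy'
      rw [comm_eq_one (h.r34 t q v)]
      exact one_mem _
    · rw [m5] at hy'
      obtain ⟨s, rfl⟩ := hy'
      rw [comm_eq_one (h.r35 t s)]
      exact one_mem _
    · rw [m6] at hy'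
      obtain ⟨q, v, rfl⟩ := hy'
      rw [comm_eq (h.r36 t q v)]
      exact f4 _ _ (by simp)
    · rw [m7] at hy'
      obtain ⟨s, rfl⟩ := hy'
      rw [comm_eq_one (h.r37 t s)]
      exact one_mem _
    · rw [m8] at hy'
      obtain ⟨q, v, rfl⟩ := hy'
      have e := h.r38 t q v
      simp only [mul_assoc (x8 q v * x3 t)] at e
      rw [comm_eq e]
      exact mul_mem (mul_mem (f4 _ _ (by simp)) (f5 _ (by simp))) (f6 _ _ (by simp))
  · rw [m4] at hx'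
    obtain ⟨p, u, rfl⟩ := hx'
    interval_cases l
    · rw [m5] at hy'
      obtain ⟨s, rfl⟩ := hy'
      rw [comm_eq_one (h.r45 p u s)]
      exact one_mem _
    · rw [m6] at hy'
      obtain ⟨q, v, rfl⟩ := hy'
      rw [comm_eq (h.r46 p u q v)]
      exact f5 _ (by simp)
    · rw [m7] at hy'
      obtain ⟨s, rfl⟩ := hy'
      rw [comm_eq (h.r47 p u s)]
      exact f6 _ _ (by simp)
    · rw [m8] at hy'
      obtain ⟨q, v, rfl⟩ := hy'
      rw [comm_eq_one (h.r48 p u q v)]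
      exact one_mem _
  · rw [m5] at hx'
    obtain ⟨t, rfl⟩ := hx'
    interval_cases l
    · rw [m6] at hy'
      obtain ⟨q, v, rfl⟩ := hy'
      rw [comm_eq_one (h.r56 t q v)]
      exact one_mem _
    · rw [m7] at hy'
      obtain ⟨s, rfl⟩ := hy'
      rw [comm_eq_one (h.r57 t s)]
      exact one_mem _
    · rw [m8] at hy'
      obtain ⟨q, v, rfl⟩ := hy'
      rw [comm_eq (h.r58 t q v)]
      exact f6 _ _ (by simp)
  · rw [m6] at hx'
    obtain ⟨p, u, rfl⟩ := hx'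
    interval_cases l
    · rw [m7] at hy'
      obtain ⟨s, rfl⟩ := hy'
      rw [comm_eq_one (h.r67 p u s)]
      exact one_mem _
    · rw [m8] at hy'
      obtain ⟨q, v, rfl⟩ := hy'
      rw [comm_eq (h.r68 p u q v)]
      exact f7 _ (by simp)
  · rw [m7] at hx'
    obtain ⟨t, rfl⟩ := hx'
    interval_cases l
    rw [m8] at hy'
    obtain ⟨q, v, rfl⟩ := hy'
    rw [comm_eq_one (h.r78 t q v)]
    exact one_mem _

end comm

/-! ### The product of two families -/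

section prod

variable {F : Type*} [Field F] {σ : F →+* F} {G K : Type*} [Group G] [Group K]
variable {x1 x3 x5 x7 : F → G} {x2 x4 x6 x8 : F → F → G} {y1 y3 y5 y7 : F → K} {y2 y4 y6 y8 : F → F → K}

theorem OctRel.prod (h : OctRel σ x1 x3 x5 x7 x2 x4 x6 x8) (k : OctRel σ y1 y3 y5 y7 y2 y4 y6 y8) :
    OctRel σ (fun a => (x1 a, y1 a)) (fun a => (x3 a, y3 a)) (fun a => (x5 a, y5 a)) (fun a => (x7 a, y7 a))
      (fun p u => (x2 p u, y2 p u)) (fun p u => (x4 p u, y4 p u)) (fun p u => (x6 p u, y6 p u))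
      (fun p u => (x8 p u, y8 p u)) where
  m1 t s := Prod.ext (h.m1 t s) (k.m1 t s)
  m3 t s := Prod.ext (h.m3 t s) (k.m3 t s)
  m5 t s := Prod.ext (h.m5 t s) (k.m5 t s)
  m7 t s := Prod.ext (h.m7 t s) (k.m7 t s)
  m2 p u q v := Prod.ext (h.m2 p u q v) (k.m2 p u q v)
  m4 p u q v := Prod.ext (h.m4 p u q v) (k.m4 p u q v)
  m6 p u q v := Prod.ext (h.m6 p u q v) (k.m6 p u q v)
  m8 p u q v := Prod.ext (h.m8 p u q v) (k.m8 p u q v)
  r12 t q v := Prod.ext (h.r12 t q v) (k.r12 t q v)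
  r13 t s := Prod.ext (h.r13 t s) (k.r13 t s)
  r14 t q v := Prod.ext (h.r14 t q v) (k.r14 t q v)
  r15 t s := Prod.ext (h.r15 t s) (k.r15 t s)
  r16 t q v := Prod.ext (h.r16 t q v) (k.r16 t q v)
  r17 t s := Prod.ext (h.r17 t s) (k.r17 t s)
  r18 t q v := Prod.ext (h.r18 t q v) (k.r18 t q v)
  r23 p u s := Prod.ext (h.r23 p u s) (k.r23 p u s)
  r24 p u q v := Prod.ext (h.r24 p u q v) (k.r24 p u q v)
  r25 p u s := Prod.ext (h.r25 p u s) (k.r25 p u s)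
  r26 p u q v := Prod.ext (h.r26 p u q v) (k.r26 p u q v)
  r27 p u s := Prod.ext (h.r27 p u s) (k.r27 p u s)
  r28 p u q v := Prod.ext (h.r28 p u q v) (k.r28 p u q v)
  r34 t q v := Prod.ext (h.r34 t q v) (k.r34 t q v)
  r35 t s := Prod.ext (h.r35 t s) (k.r35 t s)
  r36 t q v := Prod.ext (h.r36 t q v) (k.r36 t q v)
  r37 t s := Prod.ext (h.r37 t s) (k.r37 t s)
  r38 t q v := Prod.ext (h.r38 t q v) (k.r38 t q v)
  r45 p u s := Prod.ext (h.r45 p u s) (k.r45 p u s)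
  r46 p u q v := Prod.ext (h.r46 p u q v) (k.r46 p u q v)
  r47 p u s := Prod.ext (h.r47 p u s) (k.r47 p u s)
  r48 p u q v := Prod.ext (h.r48 p u q v) (k.r48 p u q v)
  r56 t q v := Prod.ext (h.r56 t q v) (k.r56 t q v)
  r57 t s := Prod.ext (h.r57 t s) (k.r57 t s)
  r58 t q v := Prod.ext (h.r58 t q v) (k.r58 t q v)
  r67 p u s := Prod.ext (h.r67 p u s) (k.r67 p u s)
  r68 p u q v := Prod.ext (h.r68 p u q v) (k.r68 p u q v)
  r78 t q v := Prod.ext (h.r78 t q v) (k.r78 t q v)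

end prod

end Cfsg.Agent.Octagon.Par
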