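import Cfsg.Agent.Octagon.FinalBase171
import Cfsg.Agent.SplitTwo.OctEnd166
import Cfsg.Prelude.Def_Classification2
import Cfsg.Agent.S1072
import Cfsg.Agent.S1074

/-!
# The last step for octagons (S1144, m = 8)

`lieConcl`: a finite simple group with a root group system `R : RootSys 8 G` is `²F₄(q)`, `q > 2`, or the Tits group.
-/

set_option autoImplicit false

namespace Cfsg.Agent.Octagon.Final171

open Cfsg.Lie Cfsg.Agent.Octagon.Pkg Cfsg.Agent.SplitTwo
open Cfsg.Agent.SplitTwo.OctEnd166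

universe u v

/-- **The last step for octagons.** -/
theorem lie_of_octPar {G : Type u} [Group G] [Finite G] [IsSimpleGroup G] (R : RootSys 8 G) (c : ZMod (2 * 8))
    {F : Type v} [Field F] [Finite F] (σ : F →+* F)
    (hσ : ∀ t, σ (σ t) = t ^ 2) {x1 x3 x5 x7 : F → G} {x2 x4 x6 x8 : F → F → G}
    (h : OctPar σ (fun i => R.X (i + c)) x1 x3 x5 x7 x2 x4 x6 x8) : Iso2F4 G ∨ IsoTits G :=
  FinalBase171.lie_of_octPar (fun hm hK => (Cfsg.Agent.S1072.result hm hK).1) Cfsg.Agent.S1074.result.2.1 R c σ hσ h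

/-- **Moufang octagons**: the group is `²F₄(q)` or the Tits group (and the characteristic is two). -/
theorem main {G : Type u} [Group G] [Finite G] [IsSimpleGroup G] (R : RootSys 8 G) :
    R.p = 2 ∧ (Iso2F4 G ∨ IsoTits G) := by
  obtain ⟨hp, h | h⟩ := exists_octPar R
  · obtain ⟨F, iF, iFin, σ, x1, x3, x5, x7, x2, x4, x6, x8, -, hσ, hP⟩ := h
    refine ⟨hp, lie_of_octPar R 0 (σ : F →+* F) hσ (x1 := x1) (x3 := x3) (x5 := x5) (x7 := x7) (x2 := x2)
      (x4 := x4) (x6 := x6) (x8 := x8) ?_⟩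
    simpa only [add_zero] using hP
  · obtain ⟨F, iF, iFin, σ, x1, x3, x5, x7, x2, x4, x6, x8, -, hσ, hP⟩ := h
    exact ⟨hp, lie_of_octPar R 1 (σ : F →+* F) hσ hP⟩

theorem isExceptional {G : Type u} [Group G] [Finite G] [IsSimpleGroup G] (R : RootSys 8 G) :
    Cfsg.IsExceptionalLieType G :=
  Or.inr (Or.inr (Or.inr (Or.inr (Or.inr (Or.inr (Or.inr (Or.inr (Or.inr (main R).2))))))))

/-- **`m = 8`** in the form of `Assembly880` (the conclusion is `TitsThree.Top.LieConcl G`). -/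
theorem lieConcl (G : Type u) [Group G] [Finite G] [IsSimpleGroup G] (R : RootSys 8 G) :
    Cfsg.IsPSL G ∨ Cfsg.IsPSp G ∨ Cfsg.IsPSU G ∨ Cfsg.IsPOmegaOdd G ∨ Cfsg.IsPOmegaPlus G ∨
      Cfsg.IsPOmegaMinus G ∨ Cfsg.IsExceptionalLieType G :=
  Or.inr (Or.inr (Or.inr (Or.inr (Or.inr (Or.inr (isExceptional R))))))

end Cfsg.Agent.Octagon.Final171
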