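import Cfsg.Agent.Octagon.Ident
import Cfsg.Agent.Octagon.KRoot
import Cfsg.Agent.Octagon.FieldAut171
import Cfsg.Agent.Hexagon.Quot
import Cfsg.Agent.RootSeq.UTop
import Cfsg.Agent.SplitTwo.RootSysZ

/-!
# The last step for octagons (S1144, m = 8)

`lie_of_octPar`: a finite simple group with a root group system `R : RootSys 8 G` whose positive root groups (after a
shift of the index) are parametrised by a finite field as in `OctPar` is `²F₄(q)`, `q > 2`, or the Tits group.
-/

set_option autoImplicit false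
set_option linter.unusedSectionVars false

namespace Cfsg.Agent.Octagon.FinalBase171

open Cfsg.Lie Cfsg.Agent.ChevalleyStructure.TwF4.TwistedFix Cfsg.Agent.ChevalleyStructure.TwF4.Rel
open Cfsg.Agent.ChevalleyStructure.TwF4.Groups Cfsg.Agent.ChevalleyStructure.TwF4.BN
open Cfsg.Agent.ChevalleyStructure.TwF4.RankOne
open Cfsg.Agent.Octagon.Pkg Cfsg.Agent.Octagon.KRoot Cfsg.Agent.Octagon.KSys Cfsg.Agent.Octagon.KPar
open Cfsg.Agent.Octagon.Ident Cfsg.Agent.Octagon.FieldAut171
open Cfsg.Agent.TitsThree.RankTwoRGD Cfsg.Agent.TitsThree.RankTwoIdx Cfsg.Agent.TitsThree.RankTwoZ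
open Cfsg.Agent.RootSeq.Final Cfsg.Agent.RootSeq.UTop Cfsg.Agent.SplitTwo Cfsg.Agent.SplitTwo.RootSysZ

universe u v

section general

variable {m : ℕ} {G : Type u} [Group G]

/-- shift of the index -/
def shift (R : RootSys m G) (c : ZMod (2 * m)) : RootSys m G where
  X := fun i => R.X (i + c)
  H := R.H
  two_lt := R.two_lt
  ne_bot := fun i => R.ne_bot _
  comm := by
    intro i k h1 h2
    have h := R.comm (i + c) k h1 h2
    have e : ∀ j : ZMod (2 * m), i + c + j = i + j + c := fun j => by ring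
    simp only [e] at h
    exact h
  inter := by
    intro i
    have h := R.inter (i + c)
    have e : ∀ j : ZMod (2 * m), i + c + j = i + j + c := fun j => by ring
    simp only [e] at h
    exact h
  mu := by
    intro i u hu h1
    obtain ⟨v, hv, v', hv', h⟩ := R.mu (i + c) u hu h1
    have e : i + c + (m : ZMod (2 * m)) = i + (m : ZMod (2 * m)) + c := by ring
    rw [e] at hv hv'
    refine ⟨v, hv, v', hv', fun j x => ?_⟩
    have e2 : 2 * i + (m : ZMod (2 * m)) - j + c = 2 * (i + c) + (m : ZMod (2 * m)) - (j + c) := by ring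
    rw [e2]
    exact h (j + c) x
  gen := by
    rw [eq_top_iff, ← R.gen]
    refine iSup_le fun i => ?_
    have h := le_iSup (fun i => R.X (i + c)) (i - c)
    simp only [sub_add_cancel] at h
    exact h
  p := R.p
  prime := R.prime
  isPGroup := fun i => R.isPGroup _
  H_conj := fun h hh i => R.H_conj h hh (i + c)

theorem shift_X (R : RootSys m G) (c : ZMod (2 * m)) : (shift R c).X = fun i => R.X (i + c) := rfl

theorem not_comm (R : RootSys 8 G) : ¬ IsMulCommutative G := by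
  intro hc
  have hcom : ∀ a b : G, a * b = b * a := fun a b => hc.is_comm.comm a b
  obtain ⟨u, hu⟩ := Subgroup.ne_bot_iff_exists_ne_one.1 (R.ne_bot 7)
  obtain ⟨v, hv, v', hv', h⟩ := R.mu 7 u u.2 (fun e => hu (Subtype.ext e))
  have h24 : ∀ x, x ∈ R.X 4 ↔ x ∈ R.X 2 := by
    intro x
    have h1 := h 2 x
    have e : (2 : ZMod (2 * 8)) * 7 + ((8 : ℕ) : ZMod (2 * 8)) - 2 = 4 := by decide
    rw [e, hcom (v * u * v') x, mul_inv_cancel_right] at h1
    exact h1
  apply R.ne_bot 2
  rw [eq_bot_iff, ← R.inter 2]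
  intro x hx
  refine ⟨hx, ?_⟩
  have h4 := (h24 x).2 hx
  have e : (4 : ZMod (2 * 8)) = 2 + ((2 : ℕ) : ZMod (2 * 8)) := by decide
  rw [e] at h4
  exact (le_iSup₂_of_le (f := fun (r : ℕ) (_ : r ∈ Set.Ioo 0 8) => R.X (2 + ((r : ℕ) : ZMod (2 * 8)))) 2
    ⟨by norm_num, by norm_num⟩ le_rfl) h4

theorem solvable (R : RootSys m G) [Finite G] (k : ZMod (2 * m)) : Group.IsSolvable ↥(R.X k) := by
  have : Fact R.p.Prime := ⟨R.prime⟩
  have h := (R.isPGroup k).isNilpotent
  infer_instance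

end general

/-! ### the model -/

section model

variable {K : Type*} [Field K] [CharP K 2] [Finite K] {φ : K →+* K} {e : ℕ} (hφ : Rln φ e)

theorem U_le : (rgdz (rootSys hφ)).U ≤ (GA K posB).subgroupOf (twistedF4 K e) := by
  refine iSup₂_le fun k hk => ?_
  have h1 := hk.1
  have h2 := hk.2
  have e1 : rep ((k : ℕ) : ZMod (2 * 8)) = k := by interval_cases k <;> decide
  show XX K e ((k : ℕ) : ZMod (2 * 8)) ≤ _
  unfold XX
  rw [e1]
  intro x hx
  exact pos_le_pos (cls_pos (by omega)) hx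

theorem not_mem_U {k : ZMod (2 * 8)} (hk : 8 < rep k) : ∃ a ∈ (rgdz (rootSys hφ)).X k, a ∉ (rgdz (rootSys hφ)).U := by
  obtain ⟨a, ha⟩ := Subgroup.ne_bot_iff_exists_ne_one.1 ((rootSys hφ).ne_bot k)
  refine ⟨a, a.2, fun h => ha (Subtype.ext (Subtype.ext ?_))⟩
  have h1 : ((a : ↥(twistedF4 K e)) : GL chevF4.Idx K) ∈ GA K posB := U_le hφ h
  have h2 : ((a : ↥(twistedF4 K e)) : GL chevF4.Idx K) ∈ GA K (clsB (rep k)) := a.2
  exact borel_inf_negB _ (U_le_borel h1) (neg_le_neg' (cls_neg hk) h2)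

end model

/-! ### the theorem -/

section main

variable {G : Type u} [Group G] [Finite G] [IsSimpleGroup G]

/-- the same field: `q > 2` -/
theorem iso_of_simple {K : Type v} [Field K] [CharP K 2] [Finite K] {φ : K →+* K} {e : ℕ} (hφ : Rln φ e)
    [IsSimpleGroup ↥(twistedF4 K e)] (R : RootSys 8 G) {x1 x3 x5 x7 : K → G} {x2 x4 x6 x8 : K → K → G}
    (h : OctPar φ R.X x1 x3 x5 x7 x2 x4 x6 x8) : Nonempty (G ≃* ↥(twistedF4 K e)) := by
  refine ident_rgdz_of_solvable (by norm_num) (rgdz R) (rgdz (rootSys hφ)) (not_comm R) (not_comm (rootSys hφ))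
    (fun k _ _ => solvable R _) (fun k _ _ => ?_) R.gen (rootSys hφ).gen
    (fam_of_octPar (rgdz R) (rgdz (rootSys hφ)) h (octPar hφ))
  have : Finite ↥(twistedF4 K e) := inferInstance
  exact solvable (rootSys hφ) _

/-- the case `q = 2` -/
theorem iso_tits (h74 : IsSimpleGroup TitsGroup) {φ : ZMod 2 →+* ZMod 2} (hφ : Rln φ 1)
    (R : RootSys 8 G) {x1 x3 x5 x7 : ZMod 2 → G} {x2 x4 x6 x8 : ZMod 2 → ZMod 2 → G}
    (h : OctPar φ R.X x1 x3 x5 x7 x2 x4 x6 x8) : IsoTits G := by
  obtain ⟨f, hf⟩ := Cfsg.Agent.Hexagon.Quot.exists_hom (by norm_num) (rgdz R) (rgdz (rootSys hφ)) R.gen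
    (rootSys hφ).gen (U_ne_top (c := (rgdz R).r2) (not_comm R) (fun k _ _ => solvable R _))
    (not_mem_U hφ (k := ((8 : ℕ) : ZMod (2 * 8)) + 1) (by decide)) (not_mem_U hφ (k := 0) (by decide))
    (fam_of_octPar (rgdz R) (rgdz (rootSys hφ)) h (octPar hφ))
  have : IsSimpleGroup ↥(commutator ↥(twistedF4 (ZMod 2) 1)) := h74
  exact Cfsg.Agent.Hexagon.Quot.equiv_commutator (not_comm R) f hf

/-- **The last step for octagons.** -/
theorem lie_of_octPar (h72 : ∀ {K : Type} [Field K] [Fintype K] {m : ℕ}, 1 ≤ m → Fintype.card K = 2 ^ (2 * m + 1) →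
    IsSimpleGroup ↥(twistedF4 K (2 ^ m))) (h74 : IsSimpleGroup TitsGroup) (R : RootSys 8 G) (c : ZMod (2 * 8)) {F : Type v} [Field F] [Finite F] (σ : F →+* F)
    (hσ : ∀ t, σ (σ t) = t ^ 2) {x1 x3 x5 x7 : F → G} {x2 x4 x6 x8 : F → F → G}
    (h : OctPar σ (fun i => R.X (i + c)) x1 x3 x5 x7 x2 x4 x6 x8) : Iso2F4 G ∨ IsoTits G := by
  obtain ⟨m, hcard, -⟩ := exists_rln σ hσ
  have := Fintype.ofFinite F
  rw [Nat.card_eq_fintype_card] at hcard
  rcases Nat.eq_zero_or_pos m with rfl | hm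
  · right
    have e0 : Fintype.card (ZMod 2) = Fintype.card F := by rw [hcard, ZMod.card]; norm_num
    let f : ZMod 2 ≃+* F := FiniteField.ringEquivOfCardEq e0
    have h' := mapRing f h
    obtain ⟨m', hc', hR⟩ := exists_rln (mapEnd f σ) (mapEnd_sq f σ hσ)
    have hm' : m' = 0 := by
      rw [Nat.card_eq_fintype_card, ZMod.card] at hc'
      have h2 : (2 : ℕ) ^ 1 = 2 ^ (2 * m' + 1) := by rw [pow_one]; exact hc'
      have h3 := Nat.pow_right_injective (le_refl 2) h2
      omega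
    subst hm'
    rw [pow_zero] at hR
    exact iso_tits h74 hR (shift R c) h'
  · left
    have := Fintype.ofFinite (GaloisField 2 (2 * m + 1))
    have e0 : Fintype.card (GaloisField 2 (2 * m + 1)) = Fintype.card F := by
      rw [hcard, Fintype.card_eq_nat_card, GaloisField.card 2 (2 * m + 1) (by omega)]
    let f : GaloisField 2 (2 * m + 1) ≃+* F := FiniteField.ringEquivOfCardEq e0
    have h' := mapRing f h
    obtain ⟨m', hc', hR⟩ := exists_rln (mapEnd f σ) (mapEnd_sq f σ hσ)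
    have hm' : m' = m := by
      rw [Nat.card_eq_fintype_card, e0, hcard] at hc'
      have h3 := Nat.pow_right_injective (le_refl 2) hc'
      have h4 : 2 * m + 1 = 2 * m' + 1 := h3
      omega
    subst hm'
    have := h72 (K := GaloisField 2 (2 * m' + 1)) hm (e0.trans hcard)
    exact ⟨GaloisField 2 (2 * m' + 1), inferInstance, inferInstance, m', hm, e0.trans hcard,
      iso_of_simple hR (shift R c) h'⟩

end main

end Cfsg.Agent.Octagon.FinalBase171
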