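import Cfsg.Agent.Octagon.Par
import Cfsg.Agent.RootSeq.Final

/-!
# Identification of groups with an octagonal root system in coordinates (S1144, m = 8)

* `fam_of_octPar` : two groups with octagonal systems over the same `(F, σ)` give a compatible family of graphs;
* `nonempty_mulEquiv` : two simple groups with octagonal systems over the same `(F, σ)` are isomorphic.
-/

set_option autoImplicit false

namespace Cfsg.Agent.Octagon.Ident

open Cfsg.Agent.Octagon.Pkg Cfsg.Agent.Octagon.Par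
open Cfsg.Agent.TitsThree.RankTwoRGD Cfsg.Agent.TitsThree.RankTwoIdx Cfsg.Agent.TitsThree.RankTwoZ
open Cfsg.Agent.RootSeq.Seg Cfsg.Agent.RootSeq.Cell Cfsg.Agent.RootSeq.Main Cfsg.Agent.RootSeq.Final
open scoped commutatorElement

universe u v

section fam

variable {F : Type*} [Field F] {G : Type u} [Group G]

theorem one_of_add {x : F → G} (h : ∀ a b, x a * x b = x (a + b)) : x 0 = 1 := by
  have := h 0 0
  rw [add_zero] at this
  exact mul_eq_left.1 this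

/-- The range of an additive map. -/
def sub1 (x : F → G) (h : ∀ a b, x a * x b = x (a + b)) : Subgroup G where
  carrier := {g | ∃ a, x a = g}
  one_mem' := ⟨0, one_of_add h⟩
  mul_mem' := by
    rintro _ _ ⟨a, rfl⟩ ⟨b, rfl⟩
    exact ⟨a + b, (h a b).symm⟩
  inv_mem' := by
    rintro _ ⟨a, rfl⟩
    refine ⟨-a, ?_⟩
    rw [eq_inv_iff_mul_eq_one, h, neg_add_cancel, one_of_add h]

variable {σ : F →+* F}

theorem one_of_suz {x : F → F → G} (h : ∀ p u q v, x p u * x q v = x (p + q) (u + v + p * σ q)) : x 0 0 = 1 := by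
  have := h 0 0 0 0
  simp only [add_zero, zero_mul] at this
  exact mul_eq_left.1 this

/-- The range of a map with the Suzuki group law. -/
def sub2 (x : F → F → G) (h : ∀ p u q v, x p u * x q v = x (p + q) (u + v + p * σ q)) : Subgroup G where
  carrier := {g | ∃ p u, x p u = g}
  one_mem' := ⟨0, 0, one_of_suz h⟩
  mul_mem' := by
    rintro _ _ ⟨p, u, rfl⟩ ⟨q, v, rfl⟩
    exact ⟨_, _, (h p u q v).symm⟩
  inv_mem' := by
    rintro _ ⟨p, u, rfl⟩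
    refine ⟨-p, -(u - p * σ p), ?_⟩
    rw [eq_comm, inv_eq_iff_mul_eq_one, h]
    have e1 : p + -p = 0 := add_neg_cancel p
    have e2 : u + -(u - p * σ p) + p * σ (-p) = 0 := by rw [map_neg]; ring
    rw [e1, e2, one_of_suz h]

/-- The eight subgroups of an octagonal system. -/
def eight (x1 x3 x5 x7 : F → G) (x2 x4 x6 x8 : F → F → G) (h : OctRel σ x1 x3 x5 x7 x2 x4 x6 x8) :
    ℕ → Subgroup G
  | 1 => sub1 x1 h.m1
  | 2 => sub2 x2 h.m2
  | 3 => sub1 x3 h.m3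
  | 4 => sub2 x4 h.m4
  | 5 => sub1 x5 h.m5
  | 6 => sub2 x6 h.m6
  | 7 => sub1 x7 h.m7
  | 8 => sub2 x8 h.m8
  | _ => ⊥

end fam

section final

variable {F : Type*} [Field F] {σ : F →+* F}
variable {G : Type u} {K : Type v} [Group G] [Group K]
variable {X : ZMod (2 * 8) → Subgroup G} {Y : ZMod (2 * 8) → Subgroup K}
variable {x1 x3 x5 x7 : F → G} {x2 x4 x6 x8 : F → F → G} {y1 y3 y5 y7 : F → K} {y2 y4 y6 y8 : F → F → K}

theorem octPar_prod (h : OctPar σ X x1 x3 x5 x7 x2 x4 x6 x8) (k : OctPar σ Y y1 y3 y5 y7 y2 y4 y6 y8) :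
    OctPar σ (fun i => eight _ _ _ _ _ _ _ _ (OctRel.prod h.toOctRel k.toOctRel) i.val)
      (fun a => (x1 a, y1 a)) (fun a => (x3 a, y3 a)) (fun a => (x5 a, y5 a)) (fun a => (x7 a, y7 a))
      (fun p u => (x2 p u, y2 p u)) (fun p u => (x4 p u, y4 p u)) (fun p u => (x6 p u, y6 p u))
      (fun p u => (x8 p u, y8 p u)) where
  toOctRel := OctRel.prod h.toOctRel k.toOctRel
  inj1 a b e := h.inj1 (congrArg Prod.fst e)
  inj3 a b e := h.inj3 (congrArg Prod.fst e)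
  inj5 a b e := h.inj5 (congrArg Prod.fst e)
  inj7 a b e := h.inj7 (congrArg Prod.fst e)
  inj2 p u q v e := h.inj2 p u q v (congrArg Prod.fst e)
  inj4 p u q v e := h.inj4 p u q v (congrArg Prod.fst e)
  inj6 p u q v e := h.inj6 p u q v (congrArg Prod.fst e)
  inj8 p u q v e := h.inj8 p u q v (congrArg Prod.fst e)
  mem1 _ := Iff.rfl
  mem3 _ := Iff.rfl
  mem5 _ := Iff.rfl
  mem7 _ := Iff.rfl
  mem2 _ := Iff.rfl
  mem4 _ := Iff.rfl
  mem6 _ := Iff.rfl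
  mem8 _ := Iff.rfl

theorem fam_of_octPar (c : RGDZ 8 G) (c' : RGDZ 8 K) (h : OctPar σ c.X x1 x3 x5 x7 x2 x4 x6 x8)
    (k : OctPar σ c'.X y1 y3 y5 y7 y2 y4 y6 y8) :
    Fam c.r2 c'.r2 (eight _ _ _ _ _ _ _ _ (OctRel.prod h.toOctRel k.toOctRel)) := by
  have z1 := one_of_add h.m1
  have z3 := one_of_add h.m3
  have z5 := one_of_add h.m5
  have z7 := one_of_add h.m7
  have z2 := one_of_suz h.m2
  have z4 := one_of_suz h.m4
  have z6 := one_of_suz h.m6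
  have z8 := one_of_suz h.m8
  have w1 := one_of_add k.m1
  have w3 := one_of_add k.m3
  have w5 := one_of_add k.m5
  have w7 := one_of_add k.m7
  have w2 := one_of_suz k.m2
  have w4 := one_of_suz k.m4
  have w6 := one_of_suz k.m6
  have w8 := one_of_suz k.m8
  have e1 : c.r2.X 1 = c.X 1 := congrArg c.X Nat.cast_one
  have e1' : c'.r2.X 1 = c'.X 1 := congrArg c'.X Nat.cast_one
  refine ⟨?_, ?_, ?_, ?_, ?_, ?_⟩
  · intro r hr1 hr2 g g' hg
    interval_cases r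
    · obtain ⟨a, ha⟩ := hg
      rw [Prod.ext_iff] at ha
      exact ⟨e1 ▸ (h.mem1 _).2 ⟨a, ha.1⟩, e1' ▸ (k.mem1 _).2 ⟨a, ha.2⟩⟩
    · obtain ⟨p, u, ha⟩ := hg
      rw [Prod.ext_iff] at ha
      exact ⟨(h.mem2 _).2 ⟨p, u, ha.1⟩, (k.mem2 _).2 ⟨p, u, ha.2⟩⟩
    · obtain ⟨a, ha⟩ := hg
      rw [Prod.ext_iff] at ha
      exact ⟨(h.mem3 _).2 ⟨a, ha.1⟩, (k.mem3 _).2 ⟨a, ha.2⟩⟩
    · obtain ⟨p, u, ha⟩ := hg
      rw [Prod.ext_iff] at ha
      exact ⟨(h.mem4 _).2 ⟨p, u, ha.1⟩, (k.mem4 _).2 ⟨p, u, ha.2⟩⟩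
    · obtain ⟨a, ha⟩ := hg
      rw [Prod.ext_iff] at ha
      exact ⟨(h.mem5 _).2 ⟨a, ha.1⟩, (k.mem5 _).2 ⟨a, ha.2⟩⟩
    · obtain ⟨p, u, ha⟩ := hg
      rw [Prod.ext_iff] at ha
      exact ⟨(h.mem6 _).2 ⟨p, u, ha.1⟩, (k.mem6 _).2 ⟨p, u, ha.2⟩⟩
    · obtain ⟨a, ha⟩ := hg
      rw [Prod.ext_iff] at ha
      exact ⟨(h.mem7 _).2 ⟨a, ha.1⟩, (k.mem7 _).2 ⟨a, ha.2⟩⟩
    · obtain ⟨p, u, ha⟩ := hg
      rw [Prod.ext_iff] at ha
      exact ⟨(h.mem8 _).2 ⟨p, u, ha.1⟩, (k.mem8 _).2 ⟨p, u, ha.2⟩⟩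
  · intro r hr1 hr2 g hg
    interval_cases r
    · rw [e1] at hg
      obtain ⟨a, rfl⟩ := (h.mem1 _).1 hg
      exact ⟨y1 a, a, rfl⟩
    · obtain ⟨p, u, rfl⟩ := (h.mem2 _).1 hg
      exact ⟨y2 p u, p, u, rfl⟩
    · obtain ⟨a, rfl⟩ := (h.mem3 _).1 hg
      exact ⟨y3 a, a, rfl⟩
    · obtain ⟨p, u, rfl⟩ := (h.mem4 _).1 hg
      exact ⟨y4 p u, p, u, rfl⟩
    · obtain ⟨a, rfl⟩ := (h.mem5 _).1 hg
      exact ⟨y5 a, a, rfl⟩
    · obtain ⟨p, u, rfl⟩ := (h.mem6 _).1 hg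
      exact ⟨y6 p u, p, u, rfl⟩
    · obtain ⟨a, rfl⟩ := (h.mem7 _).1 hg
      exact ⟨y7 a, a, rfl⟩
    · obtain ⟨p, u, rfl⟩ := (h.mem8 _).1 hg
      exact ⟨y8 p u, p, u, rfl⟩
  · intro r hr1 hr2 g hg
    interval_cases r
    · rw [e1'] at hg
      obtain ⟨a, rfl⟩ := (k.mem1 _).1 hg
      exact ⟨x1 a, a, rfl⟩
    · obtain ⟨p, u, rfl⟩ := (k.mem2 _).1 hg
      exact ⟨x2 p u, p, u, rfl⟩
    · obtain ⟨a, rfl⟩ := (k.mem3 _).1 hg
      exact ⟨x3 a, a, rfl⟩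
    · obtain ⟨p, u, rfl⟩ := (k.mem4 _).1 hg
      exact ⟨x4 p u, p, u, rfl⟩
    · obtain ⟨a, rfl⟩ := (k.mem5 _).1 hg
      exact ⟨x5 a, a, rfl⟩
    · obtain ⟨p, u, rfl⟩ := (k.mem6 _).1 hg
      exact ⟨x6 p u, p, u, rfl⟩
    · obtain ⟨a, rfl⟩ := (k.mem7 _).1 hg
      exact ⟨x7 a, a, rfl⟩
    · obtain ⟨p, u, rfl⟩ := (k.mem8 _).1 hg
      exact ⟨x8 p u, p, u, rfl⟩
  · intro r hr1 hr2 g hg
    interval_cases r
    · obtain ⟨a, ha⟩ := hg
      rw [Prod.ext_iff] at ha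
      exact ha.2.symm.trans ((congrArg y1 (h.inj1 (ha.1.trans z1.symm))).trans w1)
    · obtain ⟨p, u, ha⟩ := hg
      rw [Prod.ext_iff] at ha
      obtain ⟨hp, hu⟩ := h.inj2 p u 0 0 (ha.1.trans z2.symm)
      exact ha.2.symm.trans ((congrArg₂ y2 hp hu).trans w2)
    · obtain ⟨a, ha⟩ := hg
      rw [Prod.ext_iff] at ha
      exact ha.2.symm.trans ((congrArg y3 (h.inj3 (ha.1.trans z3.symm))).trans w3)
    · obtain ⟨p, u, ha⟩ := hg
      rw [Prod.ext_iff] at ha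
      obtain ⟨hp, hu⟩ := h.inj4 p u 0 0 (ha.1.trans z4.symm)
      exact ha.2.symm.trans ((congrArg₂ y4 hp hu).trans w4)
    · obtain ⟨a, ha⟩ := hg
      rw [Prod.ext_iff] at ha
      exact ha.2.symm.trans ((congrArg y5 (h.inj5 (ha.1.trans z5.symm))).trans w5)
    · obtain ⟨p, u, ha⟩ := hg
      rw [Prod.ext_iff] at ha
      obtain ⟨hp, hu⟩ := h.inj6 p u 0 0 (ha.1.trans z6.symm)
      exact ha.2.symm.trans ((congrArg₂ y6 hp hu).trans w6)
    · obtain ⟨a, ha⟩ := hg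
      rw [Prod.ext_iff] at ha
      exact ha.2.symm.trans ((congrArg y7 (h.inj7 (ha.1.trans z7.symm))).trans w7)
    · obtain ⟨p, u, ha⟩ := hg
      rw [Prod.ext_iff] at ha
      obtain ⟨hp, hu⟩ := h.inj8 p u 0 0 (ha.1.trans z8.symm)
      exact ha.2.symm.trans ((congrArg₂ y8 hp hu).trans w8)
  · intro r hr1 hr2 g hg
    interval_cases r
    · obtain ⟨a, ha⟩ := hg
      rw [Prod.ext_iff] at ha
      exact ha.1.symm.trans ((congrArg x1 (k.inj1 (ha.2.trans w1.symm))).trans z1)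
    · obtain ⟨p, u, ha⟩ := hg
      rw [Prod.ext_iff] at ha
      obtain ⟨hp, hu⟩ := k.inj2 p u 0 0 (ha.2.trans w2.symm)
      exact ha.1.symm.trans ((congrArg₂ x2 hp hu).trans z2)
    · obtain ⟨a, ha⟩ := hg
      rw [Prod.ext_iff] at ha
      exact ha.1.symm.trans ((congrArg x3 (k.inj3 (ha.2.trans w3.symm))).trans z3)
    · obtain ⟨p, u, ha⟩ := hg
      rw [Prod.ext_iff] at ha
      obtain ⟨hp, hu⟩ := k.inj4 p u 0 0 (ha.2.trans w4.symm)
      exact ha.1.symm.trans ((congrArg₂ x4 hp hu).trans z4)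
    · obtain ⟨a, ha⟩ := hg
      rw [Prod.ext_iff] at ha
      exact ha.1.symm.trans ((congrArg x5 (k.inj5 (ha.2.trans w5.symm))).trans z5)
    · obtain ⟨p, u, ha⟩ := hg
      rw [Prod.ext_iff] at ha
      obtain ⟨hp, hu⟩ := k.inj6 p u 0 0 (ha.2.trans w6.symm)
      exact ha.1.symm.trans ((congrArg₂ x6 hp hu).trans z6)
    · obtain ⟨a, ha⟩ := hg
      rw [Prod.ext_iff] at ha
      exact ha.1.symm.trans ((congrArg x7 (k.inj7 (ha.2.trans w7.symm))).trans z7)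
    · obtain ⟨p, u, ha⟩ := hg
      rw [Prod.ext_iff] at ha
      obtain ⟨hp, hu⟩ := k.inj8 p u 0 0 (ha.2.trans w8.symm)
      exact ha.1.symm.trans ((congrArg₂ x8 hp hu).trans z8)
  · intro r l hr hrl hl g hg g' hg'
    have hval : ∀ s : ℕ, s ≤ 8 → ((s : ℕ) : ZMod (2 * 8)).val = s := fun s hs =>
      ZMod.val_natCast_of_lt (by omega)
    have h1 := comm_of_octPar (octPar_prod h k) r l hr hrl hl g
      (by rw [hval r (by omega)]; exact hg) g' (by rw [hval l hl]; exact hg')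
    refine (iSup₂_le fun s hs => ?_ :
      (⨆ s ∈ Set.Ioo r l, eight _ _ _ _ _ _ _ _ (OctRel.prod h.toOctRel k.toOctRel) ((s : ℕ) : ZMod (2 * 8)).val) ≤ _) h1
    rw [hval s (by have := hs.2; omega)]
    exact le_iSup₂_of_le (f := fun s (_ : s ∈ Set.Ioo r l) =>
      eight _ _ _ _ _ _ _ _ (OctRel.prod h.toOctRel k.toOctRel) s) s hs le_rfl

/-- **Two simple groups with octagonal root systems over the same `(F, σ)` are isomorphic.** -/
theorem nonempty_mulEquiv [IsSimpleGroup G] [IsSimpleGroup K] (c : RGDZ 8 G) (c' : RGDZ 8 K)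
    (hgen : ⨆ i, c.X i = ⊤) (hgen' : ⨆ i, c'.X i = ⊤) (hU : c.U ≠ ⊤) (hU' : c'.U ≠ ⊤)
    (h : OctPar σ c.X x1 x3 x5 x7 x2 x4 x6 x8) (k : OctPar σ c'.X y1 y3 y5 y7 y2 y4 y6 y8) :
    Nonempty (G ≃* K) :=
  ident_rgdz (by norm_num) c c' hgen hgen' hU hU' (fam_of_octPar c c' h k)

end final

end Cfsg.Agent.Octagon.Ident
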