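import Cfsg.Agent.Octagon.KSys

/-!
# Parametrisation of the root groups of `²F₄` (K side of S1144, m = 8)
-/

set_option autoImplicit false
set_option linter.unusedSectionVars false
set_option linter.unusedVariables false

namespace Cfsg.Agent.Octagon.KPar

open Cfsg.Lie Cfsg.Agent.ChevalleyStructure.TwF4.Rel Cfsg.Agent.ChevalleyStructure.TwF4.Fix
open Cfsg.Agent.ChevalleyStructure.TwF4.Groups Cfsg.Agent.ChevalleyStructure.TwF4.RankOne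
open Cfsg.Agent.ChevalleyStructure.TwF4.Twisted Cfsg.Agent.ChevalleyStructure.TwF4.TwistedFix
open Cfsg.Agent.ChevalleyStructure.TwF4.BN
open Cfsg.Agent.Octagon.Pkg Cfsg.Agent.Octagon.KRel Cfsg.Agent.Octagon.KSys
open Cfsg.Agent.TitsThree.RankTwoZ

variable {K : Type*} [Field K] [CharP K 2] [Finite K] {φ : K →+* K} {e : ℕ}

theorem sq_phi (hφ : Rln φ e) (t : K) : φ (φ t) = t ^ 2 := by
  rw [hφ.phi t, map_pow, hφ.phi_pow]

theorem phi_e (hφ : Rln φ e) (t : K) : (φ t) ^ e = t := by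
  apply φ.injective
  rw [hφ.phi_pow]

theorem xa_eq (hφ : Rln φ e) (t : K) : x1 φ t = xa e (φ t) := by
  unfold x1 xo xa
  rw [phi_e hφ]

theorem xb_eq (hφ : Rln φ e) (p u : K) : x8 φ p u = xb e (φ p) u := by
  unfold x8 xe xb NF
  rw [phi_e hφ, pow_succ, phi_e hφ, hφ.phi u, ← pow_mul, mul_comm e 2]

theorem x1_mem (hφ : Rln φ e) (t : K) : x1 φ t ∈ twistedF4 K e := by
  rw [xa_eq hφ]; exact xa_mem _

theorem x8_mem (hφ : Rln φ e) (p u : K) : x8 φ p u ∈ twistedF4 K e := by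
  rw [xb_eq hφ]; exact xb_mem _ _

theorem conj_xo {n : GL chevF4.Idx K} {π : ℕ → ℕ} (hn : Act n π) (a b : ℕ) (ha : a < 48) (hb : b < 48) (t : K) :
    n * xo φ a b t * n⁻¹ = xo φ (π a) (π b) t := by
  unfold xo
  rw [← hn.2 a ha, ← hn.2 b hb]
  group

theorem conj_xe {n : GL chevF4.Idx K} {π : ℕ → ℕ} (hn : Act n π) (a b c d : ℕ) (ha : a < 48) (hb : b < 48)
    (hc : c < 48) (hd : d < 48) (p u : K) :
    n * xe φ a b c d p u * n⁻¹ = xe φ (π a) (π b) (π c) (π d) p u := by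
  unfold xe
  rw [← hn.2 a ha, ← hn.2 b hb, ← hn.2 c hc, ← hn.2 d hd]
  group

theorem conj7 (t : K) : n2 K * x1 φ t * (n2 K)⁻¹ = x7 φ t :=
  conj_xo Act_n2 33 24 (by norm_num) (by norm_num) t

theorem conj3 (t : K) : n1 K * x7 φ t * (n1 K)⁻¹ = x3 φ t :=
  conj_xo Act_n1 37 32 (by norm_num) (by norm_num) t

theorem conj5 (t : K) : n2 K * x3 φ t * (n2 K)⁻¹ = x5 φ t :=
  conj_xo Act_n2 38 43 (by norm_num) (by norm_num) t

theorem conj2 (p u : K) : n1 K * x8 φ p u * (n1 K)⁻¹ = x2 φ p u :=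
  conj_xe Act_n1 27 25 28 30 (by norm_num) (by norm_num) (by norm_num) (by norm_num) p u

theorem conj6 (p u : K) : n2 K * x2 φ p u * (n2 K)⁻¹ = x6 φ p u :=
  conj_xe Act_n2 34 26 36 42 (by norm_num) (by norm_num) (by norm_num) (by norm_num) p u

theorem conj4 (p u : K) : n1 K * x6 φ p u * (n1 K)⁻¹ = x4 φ p u :=
  conj_xe Act_n1 35 31 40 46 (by norm_num) (by norm_num) (by norm_num) (by norm_num) p u

/-- `x1` in the group -/
def y1 (hφ : Rln φ e) (t : K) : ↥(twistedF4 K e) := ⟨x1 φ t, x1_mem hφ t⟩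

/-- `x8` in the group -/
def y8 (hφ : Rln φ e) (p u : K) : ↥(twistedF4 K e) := ⟨x8 φ p u, x8_mem hφ p u⟩

theorem coe_y1 (hφ : Rln φ e) (t : K) : (y1 hφ t : GL chevF4.Idx K) = x1 φ t := rfl

theorem coe_y8 (hφ : Rln φ e) (p u : K) : (y8 hφ p u : GL chevF4.Idx K) = x8 φ p u := rfl

/-- `x7` in the group -/
def y7 (hφ : Rln φ e) (t : K) : ↥(twistedF4 K e) := m2 hφ * y1 hφ t * (m2 hφ)⁻¹

theorem coe_y7 (hφ : Rln φ e) (t : K) : (y7 hφ t : GL chevF4.Idx K) = x7 φ t := by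
  rw [← conj7, ← coe_y1 hφ]; rfl

/-- `x3` in the group -/
def y3 (hφ : Rln φ e) (t : K) : ↥(twistedF4 K e) := m1 K e * y7 hφ t * (m1 K e)⁻¹

theorem coe_y3 (hφ : Rln φ e) (t : K) : (y3 hφ t : GL chevF4.Idx K) = x3 φ t := by
  rw [← conj3, ← coe_y7 hφ]; rfl

/-- `x5` in the group -/
def y5 (hφ : Rln φ e) (t : K) : ↥(twistedF4 K e) := m2 hφ * y3 hφ t * (m2 hφ)⁻¹

theorem coe_y5 (hφ : Rln φ e) (t : K) : (y5 hφ t : GL chevF4.Idx K) = x5 φ t := by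
  rw [← conj5, ← coe_y3 hφ]; rfl

/-- `x2` in the group -/
def y2 (hφ : Rln φ e) (p u : K) : ↥(twistedF4 K e) := m1 K e * y8 hφ p u * (m1 K e)⁻¹

theorem coe_y2 (hφ : Rln φ e) (p u : K) : (y2 hφ p u : GL chevF4.Idx K) = x2 φ p u := by
  rw [← conj2, ← coe_y8 hφ]; rfl

/-- `x6` in the group -/
def y6 (hφ : Rln φ e) (p u : K) : ↥(twistedF4 K e) := m2 hφ * y2 hφ p u * (m2 hφ)⁻¹

theorem coe_y6 (hφ : Rln φ e) (p u : K) : (y6 hφ p u : GL chevF4.Idx K) = x6 φ p u := by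
  rw [← conj6, ← coe_y2 hφ]; rfl

/-- `x4` in the group -/
def y4 (hφ : Rln φ e) (p u : K) : ↥(twistedF4 K e) := m1 K e * y6 hφ p u * (m1 K e)⁻¹

theorem coe_y4 (hφ : Rln φ e) (p u : K) : (y4 hφ p u : GL chevF4.Idx K) = x4 φ p u := by
  rw [← conj4, ← coe_y6 hφ]; rfl

/-! ### bijectivity -/

theorem memXX1 (hφ : Rln φ e) (g : ↥(twistedF4 K e)) : g ∈ XX K e 1 ↔ ∃ t, y1 hφ t = g := by
  rw [mem_XX]
  have h0 : rep 1 = 1 := by decide
  rw [h0]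
  constructor
  · intro hg
    obtain ⟨t, ht⟩ := cls1_Fix hφ _ hg (twisted_le_Fix hφ g.2)
    refine ⟨t ^ e, Subtype.ext ?_⟩
    rw [coe_y1, ht]
    unfold x1 xo
    rw [hφ.phi_pow]
  · rintro ⟨t, rfl⟩
    rw [coe_y1, xa_eq hφ]
    exact xa_pos e _

theorem memXX8 (hφ : Rln φ e) (g : ↥(twistedF4 K e)) : g ∈ XX K e 8 ↔ ∃ p u, y8 hφ p u = g := by
  rw [mem_XX]
  have h0 : rep 8 = 8 := by decide
  rw [h0]
  constructor
  · intro hg
    obtain ⟨t, u, ht⟩ := cls8_Fix hφ _ hg (twisted_le_Fix hφ g.2)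
    refine ⟨t ^ e, u, Subtype.ext ?_⟩
    rw [coe_y8, xb_eq hφ, hφ.phi_pow, ht]
    rfl
  · rintro ⟨p, u, rfl⟩
    rw [coe_y8, xb_eq hφ]
    exact xb_pos e _ _

theorem inj_y1 (hφ : Rln φ e) : Function.Injective (y1 (K := K) hφ) := by
  intro t s h
  have h1 : x1 φ t = x1 φ s := by
    have := congrArg (fun g : ↥(twistedF4 K e) => (g : GL chevF4.Idx K)) h
    exact this
  unfold x1 xo at h1
  have h2 := XX_col27 t (φ t)
  rw [h1, XX_col27] at h2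
  have h3 := congrFun h2 (Cfsg.Agent.ChevalleyStructure.TwF4.Fix.ofPos 38)
  simp [ev'_apply] at h3
  exact h3.symm

theorem inj_y8 (hφ : Rln φ e) (p u q v : K) (h : y8 hφ p u = y8 hφ q v) : p = q ∧ u = v := by
  have h1 : x8 φ p u = x8 φ q v := by
    have := congrArg (fun g : ↥(twistedF4 K e) => (g : GL chevF4.Idx K)) h
    exact this
  have h2 : NF p (φ p) (p * φ p + u) (φ u) = NF q (φ q) (q * φ q + v) (φ v) := h1
  have h3 := NF_coord (congrArg (fun g : GL chevF4.Idx K => Amat (g : Matrix chevF4.Idx chevF4.Idx K)) h2)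
  exact ⟨h3.1, φ.injective h3.2.2.2⟩

/-- transport of the membership statement by an element inducing a reflection -/
theorem mem_transport {n : ↥(twistedF4 K e)} {c j k : ZMod (2 * 8)} (hn : Maps (XX K e) n (fun k => c - k))
    (hjk : c - j = k) (g : ↥(twistedF4 K e)) : g ∈ XX K e k ↔ n⁻¹ * g * n ∈ XX K e j := by
  have h := hn j (n⁻¹ * g * n)
  have e1 : n * (n⁻¹ * g * n) * n⁻¹ = g := by group
  rw [e1] at h
  have h' : g ∈ XX K e (c - j) ↔ n⁻¹ * g * n ∈ XX K e j := h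
  rwa [hjk] at h'

theorem ex_transport1 {n : ↥(twistedF4 K e)} {f f' : K → ↥(twistedF4 K e)} (h : ∀ t, f' t = n * f t * n⁻¹)
    (g : ↥(twistedF4 K e)) : (∃ t, f' t = g) ↔ ∃ t, f t = n⁻¹ * g * n := by
  constructor
  · rintro ⟨t, rfl⟩
    exact ⟨t, by rw [h]; group⟩
  · rintro ⟨t, ht⟩
    exact ⟨t, by rw [h, ht]; group⟩

theorem ex_transport2 {n : ↥(twistedF4 K e)} {f f' : K → K → ↥(twistedF4 K e)}
    (h : ∀ t u, f' t u = n * f t u * n⁻¹)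
    (g : ↥(twistedF4 K e)) : (∃ t u, f' t u = g) ↔ ∃ t u, f t u = n⁻¹ * g * n := by
  constructor
  · rintro ⟨t, u, rfl⟩
    exact ⟨t, u, by rw [h]; group⟩
  · rintro ⟨t, u, ht⟩
    exact ⟨t, u, by rw [h, ht]; group⟩

theorem conj_inj {n a b : ↥(twistedF4 K e)} (h : n * a * n⁻¹ = n * b * n⁻¹) : a = b :=
  mul_left_cancel (mul_right_cancel h)

theorem memXX7 (hφ : Rln φ e) (g : ↥(twistedF4 K e)) : g ∈ XX K e 7 ↔ ∃ t, y7 hφ t = g := by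
  rw [mem_transport (maps_m2 hφ) (j := 1) (by decide) g, ex_transport1 (f := y1 hφ) (f' := y7 hφ) (fun t => rfl)]
  exact memXX1 hφ _

theorem inj_y7 (hφ : Rln φ e) : Function.Injective (y7 (K := K) hφ) :=
  fun t s h => inj_y1 hφ (conj_inj h)

theorem memXX3 (hφ : Rln φ e) (g : ↥(twistedF4 K e)) : g ∈ XX K e 3 ↔ ∃ t, y3 hφ t = g := by
  rw [mem_transport maps_m1 (j := 7) (by decide) g, ex_transport1 (f := y7 hφ) (f' := y3 hφ) (fun t => rfl)]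
  exact memXX7 hφ _

theorem inj_y3 (hφ : Rln φ e) : Function.Injective (y3 (K := K) hφ) :=
  fun t s h => inj_y7 hφ (conj_inj h)

theorem memXX5 (hφ : Rln φ e) (g : ↥(twistedF4 K e)) : g ∈ XX K e 5 ↔ ∃ t, y5 hφ t = g := by
  rw [mem_transport (maps_m2 hφ) (j := 3) (by decide) g, ex_transport1 (f := y3 hφ) (f' := y5 hφ) (fun t => rfl)]
  exact memXX3 hφ _

theorem inj_y5 (hφ : Rln φ e) : Function.Injective (y5 (K := K) hφ) :=
  fun t s h => inj_y3 hφ (conj_inj h)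

theorem memXX2 (hφ : Rln φ e) (g : ↥(twistedF4 K e)) : g ∈ XX K e 2 ↔ ∃ p u, y2 hφ p u = g := by
  rw [mem_transport maps_m1 (j := 8) (by decide) g, ex_transport2 (f := y8 hφ) (f' := y2 hφ) (fun p u => rfl)]
  exact memXX8 hφ _

theorem inj_y2 (hφ : Rln φ e) (p u q v : K) (h : y2 hφ p u = y2 hφ q v) : p = q ∧ u = v :=
  inj_y8 hφ p u q v (conj_inj h)

theorem memXX6 (hφ : Rln φ e) (g : ↥(twistedF4 K e)) : g ∈ XX K e 6 ↔ ∃ p u, y6 hφ p u = g := by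
  rw [mem_transport (maps_m2 hφ) (j := 2) (by decide) g, ex_transport2 (f := y2 hφ) (f' := y6 hφ) (fun p u => rfl)]
  exact memXX2 hφ _

theorem inj_y6 (hφ : Rln φ e) (p u q v : K) (h : y6 hφ p u = y6 hφ q v) : p = q ∧ u = v :=
  inj_y2 hφ p u q v (conj_inj h)

theorem memXX4 (hφ : Rln φ e) (g : ↥(twistedF4 K e)) : g ∈ XX K e 4 ↔ ∃ p u, y4 hφ p u = g := by
  rw [mem_transport maps_m1 (j := 6) (by decide) g, ex_transport2 (f := y6 hφ) (f' := y4 hφ) (fun p u => rfl)]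
  exact memXX6 hφ _

theorem inj_y4 (hφ : Rln φ e) (p u q v : K) (h : y4 hφ p u = y4 hφ q v) : p = q ∧ u = v :=
  inj_y6 hφ p u q v (conj_inj h)

/-- **The parametrised root groups of the model.** -/
theorem octPar (hφ : Rln φ e) : OctPar φ (XX K e) (y1 hφ) (y3 hφ) (y5 hφ) (y7 hφ) (y2 hφ) (y4 hφ) (y6 hφ) (y8 hφ) :=
  have R := octRel φ (sq_phi hφ)
  { m1 := fun t s => Subtype.ext (by
      simp only [Subgroup.coe_mul, coe_y1 hφ, coe_y2 hφ, coe_y3 hφ, coe_y4 hφ, coe_y5 hφ, coe_y6 hφ, coe_y7 hφ, coe_y8 hφ]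
      exact R.m1 t s)
    m2 := fun p u q v => Subtype.ext (by
      simp only [Subgroup.coe_mul, coe_y1 hφ, coe_y2 hφ, coe_y3 hφ, coe_y4 hφ, coe_y5 hφ, coe_y6 hφ, coe_y7 hφ, coe_y8 hφ]
      exact R.m2 p u q v)
    m3 := fun t s => Subtype.ext (by
      simp only [Subgroup.coe_mul, coe_y1 hφ, coe_y2 hφ, coe_y3 hφ, coe_y4 hφ, coe_y5 hφ, coe_y6 hφ, coe_y7 hφ, coe_y8 hφ]
      exact R.m3 t s)
    m4 := fun p u q v => Subtype.ext (by
      simp only [Subgroup.coe_mul, coe_y1 hφ, coe_y2 hφ, coe_y3 hφ, coe_y4 hφ, coe_y5 hφ, coe_y6 hφ, coe_y7 hφ, coe_y8 hφ]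
      exact R.m4 p u q v)
    m5 := fun t s => Subtype.ext (by
      simp only [Subgroup.coe_mul, coe_y1 hφ, coe_y2 hφ, coe_y3 hφ, coe_y4 hφ, coe_y5 hφ, coe_y6 hφ, coe_y7 hφ, coe_y8 hφ]
      exact R.m5 t s)
    m6 := fun p u q v => Subtype.ext (by
      simp only [Subgroup.coe_mul, coe_y1 hφ, coe_y2 hφ, coe_y3 hφ, coe_y4 hφ, coe_y5 hφ, coe_y6 hφ, coe_y7 hφ, coe_y8 hφ]
      exact R.m6 p u q v)
    m7 := fun t s => Subtype.ext (by
      simp only [Subgroup.coe_mul, coe_y1 hφ, coe_y2 hφ, coe_y3 hφ, coe_y4 hφ, coe_y5 hφ, coe_y6 hφ, coe_y7 hφ, coe_y8 hφ]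
      exact R.m7 t s)
    m8 := fun p u q v => Subtype.ext (by
      simp only [Subgroup.coe_mul, coe_y1 hφ, coe_y2 hφ, coe_y3 hφ, coe_y4 hφ, coe_y5 hφ, coe_y6 hφ, coe_y7 hφ, coe_y8 hφ]
      exact R.m8 p u q v)
    r12 := fun t q v => Subtype.ext (by
      simp only [Subgroup.coe_mul, coe_y1 hφ, coe_y2 hφ, coe_y3 hφ, coe_y4 hφ, coe_y5 hφ, coe_y6 hφ, coe_y7 hφ, coe_y8 hφ]
      exact R.r12 t q v)
    r13 := fun t s => Subtype.ext (by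
      simp only [Subgroup.coe_mul, coe_y1 hφ, coe_y2 hφ, coe_y3 hφ, coe_y4 hφ, coe_y5 hφ, coe_y6 hφ, coe_y7 hφ, coe_y8 hφ]
      exact R.r13 t s)
    r14 := fun t q v => Subtype.ext (by
      simp only [Subgroup.coe_mul, coe_y1 hφ, coe_y2 hφ, coe_y3 hφ, coe_y4 hφ, coe_y5 hφ, coe_y6 hφ, coe_y7 hφ, coe_y8 hφ]
      exact R.r14 t q v)
    r15 := fun t s => Subtype.ext (by
      simp only [Subgroup.coe_mul, coe_y1 hφ, coe_y2 hφ, coe_y3 hφ, coe_y4 hφ, coe_y5 hφ, coe_y6 hφ, coe_y7 hφ, coe_y8 hφ]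
      exact R.r15 t s)
    r16 := fun t q v => Subtype.ext (by
      simp only [Subgroup.coe_mul, coe_y1 hφ, coe_y2 hφ, coe_y3 hφ, coe_y4 hφ, coe_y5 hφ, coe_y6 hφ, coe_y7 hφ, coe_y8 hφ]
      exact R.r16 t q v)
    r17 := fun t s => Subtype.ext (by
      simp only [Subgroup.coe_mul, coe_y1 hφ, coe_y2 hφ, coe_y3 hφ, coe_y4 hφ, coe_y5 hφ, coe_y6 hφ, coe_y7 hφ, coe_y8 hφ]
      exact R.r17 t s)
    r18 := fun t q v => Subtype.ext (by
      simp only [Subgroup.coe_mul, coe_y1 hφ, coe_y2 hφ, coe_y3 hφ, coe_y4 hφ, coe_y5 hφ, coe_y6 hφ, coe_y7 hφ, coe_y8 hφ]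
      exact R.r18 t q v)
    r23 := fun p u s => Subtype.ext (by
      simp only [Subgroup.coe_mul, coe_y1 hφ, coe_y2 hφ, coe_y3 hφ, coe_y4 hφ, coe_y5 hφ, coe_y6 hφ, coe_y7 hφ, coe_y8 hφ]
      exact R.r23 p u s)
    r24 := fun p u q v => Subtype.ext (by
      simp only [Subgroup.coe_mul, coe_y1 hφ, coe_y2 hφ, coe_y3 hφ, coe_y4 hφ, coe_y5 hφ, coe_y6 hφ, coe_y7 hφ, coe_y8 hφ]
      exact R.r24 p u q v)
    r25 := fun p u s => Subtype.ext (by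
      simp only [Subgroup.coe_mul, coe_y1 hφ, coe_y2 hφ, coe_y3 hφ, coe_y4 hφ, coe_y5 hφ, coe_y6 hφ, coe_y7 hφ, coe_y8 hφ]
      exact R.r25 p u s)
    r26 := fun p u q v => Subtype.ext (by
      simp only [Subgroup.coe_mul, coe_y1 hφ, coe_y2 hφ, coe_y3 hφ, coe_y4 hφ, coe_y5 hφ, coe_y6 hφ, coe_y7 hφ, coe_y8 hφ]
      exact R.r26 p u q v)
    r27 := fun p u s => Subtype.ext (by
      simp only [Subgroup.coe_mul, coe_y1 hφ, coe_y2 hφ, coe_y3 hφ, coe_y4 hφ, coe_y5 hφ, coe_y6 hφ, coe_y7 hφ, coe_y8 hφ]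
      exact R.r27 p u s)
    r28 := fun p u q v => Subtype.ext (by
      simp only [Subgroup.coe_mul, coe_y1 hφ, coe_y2 hφ, coe_y3 hφ, coe_y4 hφ, coe_y5 hφ, coe_y6 hφ, coe_y7 hφ, coe_y8 hφ]
      exact R.r28 p u q v)
    r34 := fun t q v => Subtype.ext (by
      simp only [Subgroup.coe_mul, coe_y1 hφ, coe_y2 hφ, coe_y3 hφ, coe_y4 hφ, coe_y5 hφ, coe_y6 hφ, coe_y7 hφ, coe_y8 hφ]
      exact R.r34 t q v)
    r35 := fun t s => Subtype.ext (by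
      simp only [Subgroup.coe_mul, coe_y1 hφ, coe_y2 hφ, coe_y3 hφ, coe_y4 hφ, coe_y5 hφ, coe_y6 hφ, coe_y7 hφ, coe_y8 hφ]
      exact R.r35 t s)
    r36 := fun t q v => Subtype.ext (by
      simp only [Subgroup.coe_mul, coe_y1 hφ, coe_y2 hφ, coe_y3 hφ, coe_y4 hφ, coe_y5 hφ, coe_y6 hφ, coe_y7 hφ, coe_y8 hφ]
      exact R.r36 t q v)
    r37 := fun t s => Subtype.ext (by
      simp only [Subgroup.coe_mul, coe_y1 hφ, coe_y2 hφ, coe_y3 hφ, coe_y4 hφ, coe_y5 hφ, coe_y6 hφ, coe_y7 hφ, coe_y8 hφ]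
      exact R.r37 t s)
    r38 := fun t q v => Subtype.ext (by
      simp only [Subgroup.coe_mul, coe_y1 hφ, coe_y2 hφ, coe_y3 hφ, coe_y4 hφ, coe_y5 hφ, coe_y6 hφ, coe_y7 hφ, coe_y8 hφ]
      exact R.r38 t q v)
    r45 := fun p u s => Subtype.ext (by
      simp only [Subgroup.coe_mul, coe_y1 hφ, coe_y2 hφ, coe_y3 hφ, coe_y4 hφ, coe_y5 hφ, coe_y6 hφ, coe_y7 hφ, coe_y8 hφ]
      exact R.r45 p u s)
    r46 := fun p u q v => Subtype.ext (by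
      simp only [Subgroup.coe_mul, coe_y1 hφ, coe_y2 hφ, coe_y3 hφ, coe_y4 hφ, coe_y5 hφ, coe_y6 hφ, coe_y7 hφ, coe_y8 hφ]
      exact R.r46 p u q v)
    r47 := fun p u s => Subtype.ext (by
      simp only [Subgroup.coe_mul, coe_y1 hφ, coe_y2 hφ, coe_y3 hφ, coe_y4 hφ, coe_y5 hφ, coe_y6 hφ, coe_y7 hφ, coe_y8 hφ]
      exact R.r47 p u s)
    r48 := fun p u q v => Subtype.ext (by
      simp only [Subgroup.coe_mul, coe_y1 hφ, coe_y2 hφ, coe_y3 hφ, coe_y4 hφ, coe_y5 hφ, coe_y6 hφ, coe_y7 hφ, coe_y8 hφ]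
      exact R.r48 p u q v)
    r56 := fun t q v => Subtype.ext (by
      simp only [Subgroup.coe_mul, coe_y1 hφ, coe_y2 hφ, coe_y3 hφ, coe_y4 hφ, coe_y5 hφ, coe_y6 hφ, coe_y7 hφ, coe_y8 hφ]
      exact R.r56 t q v)
    r57 := fun t s => Subtype.ext (by
      simp only [Subgroup.coe_mul, coe_y1 hφ, coe_y2 hφ, coe_y3 hφ, coe_y4 hφ, coe_y5 hφ, coe_y6 hφ, coe_y7 hφ, coe_y8 hφ]
      exact R.r57 t s)
    r58 := fun t q v => Subtype.ext (by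
      simp only [Subgroup.coe_mul, coe_y1 hφ, coe_y2 hφ, coe_y3 hφ, coe_y4 hφ, coe_y5 hφ, coe_y6 hφ, coe_y7 hφ, coe_y8 hφ]
      exact R.r58 t q v)
    r67 := fun p u s => Subtype.ext (by
      simp only [Subgroup.coe_mul, coe_y1 hφ, coe_y2 hφ, coe_y3 hφ, coe_y4 hφ, coe_y5 hφ, coe_y6 hφ, coe_y7 hφ, coe_y8 hφ]
      exact R.r67 p u s)
    r68 := fun p u q v => Subtype.ext (by
      simp only [Subgroup.coe_mul, coe_y1 hφ, coe_y2 hφ, coe_y3 hφ, coe_y4 hφ, coe_y5 hφ, coe_y6 hφ, coe_y7 hφ, coe_y8 hφ]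
      exact R.r68 p u q v)
    r78 := fun t q v => Subtype.ext (by
      simp only [Subgroup.coe_mul, coe_y1 hφ, coe_y2 hφ, coe_y3 hφ, coe_y4 hφ, coe_y5 hφ, coe_y6 hφ, coe_y7 hφ, coe_y8 hφ]
      exact R.r78 t q v)
    mem1 := memXX1 hφ
    mem3 := memXX3 hφ
    mem5 := memXX5 hφ
    mem7 := memXX7 hφ
    mem2 := memXX2 hφ
    mem4 := memXX4 hφ
    mem6 := memXX6 hφ
    mem8 := memXX8 hφ
    inj1 := inj_y1 hφ
    inj3 := inj_y3 hφ
    inj5 := inj_y5 hφ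
    inj7 := inj_y7 hφ
    inj2 := inj_y2 hφ
    inj4 := inj_y4 hφ
    inj6 := inj_y6 hφ
    inj8 := inj_y8 hφ }

end Cfsg.Agent.Octagon.KPar
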