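import Cfsg.Agent.Octagon.Coll
import Cfsg.Agent.Octagon.Pkg

/-!
# The relations of `OctRel` in `F₄` in characteristic two (K side of S1144, m = 8)
-/

set_option autoImplicit false
set_option linter.unusedSectionVars false
set_option linter.unusedSimpArgs false
set_option linter.unusedVariables false

namespace Cfsg.Agent.Octagon.KRel

open Cfsg.Lie Cfsg.Agent.ChevalleyStructure.TwF4.Rel Cfsg.Agent.Octagon.Coll Cfsg.Agent.Octagon.Pkg
open Cfsg.Agent.Octagon.Coll.Ex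

section

variable {K : Type*} [Field K] [CharP K 2]

/-- root element of a class of two roots `[short, long]` -/
def xo (σ : K →+* K) (a b : ℕ) (t : K) : GL chevF4.Idx K := X a t * X b (σ t)

/-- root element of a class of four roots -/
def xe (σ : K →+* K) (a b c d : ℕ) (p u : K) : GL chevF4.Idx K :=
  X a p * X b (σ p) * X c (p * σ p + u) * X d (σ u)

/-- symbolic version -/
def xoE (a b : ℕ) (t : Ex) : List (ℕ × Ex) := [(a, t), (b, t.sg)]

/-- symbolic version -/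
def xeE (a b c d : ℕ) (p u : Ex) : List (ℕ × Ex) := [(a, p), (b, p.sg), (c, add (mul p p.sg) u), (d, u.sg)]

variable (σ : K →+* K) (hσ : ∀ t, σ (σ t) = t ^ 2)

include hσ in
theorem den_xoE (y : ℕ → K) (a b : ℕ) (t : Ex) : denW σ y (xoE a b t) = xo σ a b (t.den σ y) := by
  rw [xoE, denW_cons, denW_cons, denW_nil, mul_one, den_sg σ hσ]; rfl

include hσ in
theorem den_xeE (y : ℕ → K) (a b c d : ℕ) (p u : Ex) :
    denW σ y (xeE a b c d p u) = xe σ a b c d (p.den σ y) (u.den σ y) := by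
  have e : (add (mul p p.sg) u).den σ y = p.den σ y * σ (p.den σ y) + u.den σ y := by
    have : (add (mul p p.sg) u).den σ y = p.den σ y * p.sg.den σ y + u.den σ y := rfl
    rw [this, den_sg σ hσ]
  rw [xeE, denW_cons, denW_cons, denW_cons, denW_cons, denW_nil, mul_one, den_sg σ hσ, den_sg σ hσ, e, xe, mul_assoc,
    mul_assoc]

/-- assignment of four variables -/
def yy (a b c d : K) : ℕ → K
  | 0 => a
  | 1 => b
  | 2 => c
  | _ => d

theorem yy0 (a b c d : K) : yy a b c d 0 = a := rfl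
theorem yy1 (a b c d : K) : yy a b c d 1 = b := rfl
theorem yy2 (a b c d : K) : yy a b c d 2 = c := rfl
theorem yy3 (a b c d : K) : yy a b c d 3 = d := rfl
theorem den_v (y : ℕ → K) (i : ℕ) : (Ex.v i).den σ y = y i := rfl
theorem den_w (y : ℕ → K) (i : ℕ) : (Ex.w i).den σ y = σ (y i) := rfl
theorem den_one (y : ℕ → K) : Ex.one.den σ y = 1 := rfl
theorem den_zero (y : ℕ → K) : Ex.zero.den σ y = 0 := rfl
theorem den_add (y : ℕ → K) (a b : Ex) : (Ex.add a b).den σ y = a.den σ y + b.den σ y := rfl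
theorem den_mul (y : ℕ → K) (a b : Ex) : (Ex.mul a b).den σ y = a.den σ y * b.den σ y := rfl

end

/-- symbolic `x1` -/
def x1E (t : Ex) : List (ℕ × Ex) := xoE 33 24 t

/-- symbolic `x2` -/
def x2E (p u : Ex) : List (ℕ × Ex) := xeE 34 26 36 42 p u

/-- symbolic `x3` -/
def x3E (t : Ex) : List (ℕ × Ex) := xoE 38 43 t

/-- symbolic `x4` -/
def x4E (p u : Ex) : List (ℕ × Ex) := xeE 29 41 44 47 p u

/-- symbolic `x5` -/
def x5E (t : Ex) : List (ℕ × Ex) := xoE 39 45 t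

/-- symbolic `x6` -/
def x6E (p u : Ex) : List (ℕ × Ex) := xeE 35 31 40 46 p u

/-- symbolic `x7` -/
def x7E (t : Ex) : List (ℕ × Ex) := xoE 37 32 t

/-- symbolic `x8` -/
def x8E (p u : Ex) : List (ℕ × Ex) := xeE 27 25 28 30 p u

theorem c_m1 : chkE (x1E (v 0) ++ x1E (v 2))
    (x1E (add (v 0) (v 2))) = true := by decide +kernel

theorem c_m2 : chkE (x2E (v 0) (v 1) ++ x2E (v 2) (v 3))
    (x2E (add (v 0) (v 2)) (add (add (v 1) (v 3)) (mul (v 0) (w 2)))) = true := by decide +kernel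

theorem c_m3 : chkE (x3E (v 0) ++ x3E (v 2))
    (x3E (add (v 0) (v 2))) = true := by decide +kernel

theorem c_m4 : chkE (x4E (v 0) (v 1) ++ x4E (v 2) (v 3))
    (x4E (add (v 0) (v 2)) (add (add (v 1) (v 3)) (mul (v 0) (w 2)))) = true := by decide +kernel

theorem c_m5 : chkE (x5E (v 0) ++ x5E (v 2))
    (x5E (add (v 0) (v 2))) = true := by decide +kernel

theorem c_m6 : chkE (x6E (v 0) (v 1) ++ x6E (v 2) (v 3))
    (x6E (add (v 0) (v 2)) (add (add (v 1) (v 3)) (mul (v 0) (w 2)))) = true := by decide +kernel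

theorem c_m7 : chkE (x7E (v 0) ++ x7E (v 2))
    (x7E (add (v 0) (v 2))) = true := by decide +kernel

theorem c_m8 : chkE (x8E (v 0) (v 1) ++ x8E (v 2) (v 3))
    (x8E (add (v 0) (v 2)) (add (add (v 1) (v 3)) (mul (v 0) (w 2)))) = true := by decide +kernel

theorem c_r12 : chkE (x1E (v 0) ++ x2E (v 2) (v 3))
    (x2E (v 2) (v 3) ++ x1E (v 0)) = true := by decide +kernel

theorem c_r13 : chkE (x1E (v 0) ++ x3E (v 2))
    (x3E (v 2) ++ x1E (v 0)) = true := by decide +kernel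

theorem c_r14 : chkE (x1E (v 0) ++ x4E (v 2) (v 3))
    (x4E (v 2) (v 3) ++ x1E (v 0) ++ x2E zero (mul (v 0) (v 2))) = true := by decide +kernel

theorem c_r15 : chkE (x1E (v 0) ++ x5E (v 2))
    (x5E (v 2) ++ x1E (v 0)) = true := by decide +kernel

theorem c_r16 : chkE (x1E (v 0) ++ x6E (v 2) (v 3))
    (x6E (v 2) (v 3) ++ x1E (v 0) ++ x2E zero (mul (w 0) (v 2)) ++ x3E (mul (v 0) (w 2)) ++ x4E zero (add (mul (mul (v 0) (v 2)) (w 2)) (mul (v 0) (v 3)))) = true := by decide +kernel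

theorem c_r17 : chkE (x1E (v 0) ++ x7E (v 2))
    (x7E (v 2) ++ x1E (v 0) ++ x3E (mul (w 0) (v 2)) ++ x5E (mul (v 0) (w 2))) = true := by decide +kernel

theorem c_r18 : chkE (x1E (v 0) ++ x8E (v 2) (v 3))
    (x8E (v 2) (v 3) ++ x1E (v 0) ++ x2E (mul (v 0) (v 2)) (add (mul (mul (mul (v 0) (w 0)) (v 2)) (w 2)) (mul (mul (v 0) (w 0)) (v 3))) ++ x3E (add (add (mul (mul (mul (v 0) (w 0)) (v 2)) (v 3)) (mul (mul (mul (mul (v 0) (w 0)) (v 2)) (v 2)) (w 2))) (mul (mul (v 0) (w 0)) (w 3))) ++ x4E (add (mul (mul (w 0) (v 2)) (w 2)) (mul (w 0) (v 3))) (add (add (mul (mul (mul (mul (mul (v 0) (v 0)) (w 0)) (v 2)) (v 3)) (v 3)) (mul (mul (mul (mul (mul (mul (v 0) (v 0)) (w 0)) (v 2)) (v 2)) (w 2)) (v 3))) (mul (mul (mul (mul (v 0) (v 0)) (w 0)) (v 3)) (w 3))) ++ x5E (add (add (mul (mul (mul (v 0) (w 0)) (w 2)) (w 3)) (mul (mul (mul (mul (mul (v 0) (w 0)) (v 2)) (v 2)) (w 2)) (w 2))) (mul (mul (mul (v 0) (w 0)) (v 3)) (v 3)))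 ++ x6E (mul (v 0) (v 3)) (add (add (mul (mul (mul (mul (v 0) (w 0)) (v 2)) (v 3)) (v 3)) (mul (mul (mul (mul (v 0) (w 0)) (v 2)) (w 2)) (w 3))) (mul (mul (mul (mul (mul (mul (v 0) (w 0)) (v 2)) (v 2)) (v 2)) (w 2)) (w 2))) ++ x7E (add (add (mul (mul (v 0) (v 2)) (v 3)) (mul (mul (mul (v 0) (v 2)) (v 2)) (w 2))) (mul (v 0) (w 3)))) = true := by decide +kernel

theorem c_r23 : chkE (x2E (v 0) (v 1) ++ x3E (v 2))
    (x3E (v 2) ++ x2E (v 0) (v 1)) = true := by decide +kernel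

theorem c_r24 : chkE (x2E (v 0) (v 1) ++ x4E (v 2) (v 3))
    (x4E (v 2) (v 3) ++ x2E (v 0) (v 1) ++ x3E (mul (v 0) (v 2))) = true := by decide +kernel

theorem c_r25 : chkE (x2E (v 0) (v 1) ++ x5E (v 2))
    (x5E (v 2) ++ x2E (v 0) (v 1) ++ x4E zero (mul (v 0) (v 2))) = true := by decide +kernel

theorem c_r26 : chkE (x2E (v 0) (v 1) ++ x6E (v 2) (v 3))
    (x6E (v 2) (v 3) ++ x2E (v 0) (v 1)) = true := by decide +kernel

theorem c_r27 : chkE (x2E (v 0) (v 1) ++ x7E (v 2))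
    (x7E (v 2) ++ x2E (v 0) (v 1) ++ x4E zero (add (mul (mul (v 0) (w 0)) (v 2)) (mul (v 1) (v 2))) ++ x5E (mul (w 0) (v 2)) ++ x6E zero (mul (v 0) (w 2))) = true := by decide +kernel

theorem c_r28 : chkE (x2E (v 0) (v 1) ++ x8E (v 2) (v 3))
    (x8E (v 2) (v 3) ++ x2E (v 0) (v 1) ++ x3E (add (mul (mul (v 0) (w 0)) (v 2)) (mul (v 1) (v 2))) ++ x4E (mul (w 0) (v 2)) (add (add (add (mul (mul (v 0) (v 1)) (v 3)) (mul (mul (mul (v 0) (v 0)) (w 0)) (v 3))) (mul (mul (w 1) (v 2)) (w 2))) (mul (w 1) (v 3))) ++ x5E (mul (v 1) (v 3)) ++ x6E (mul (v 0) (w 2)) (add (add (add (add (mul (mul (mul (mul (v 0) (w 0)) (v 2)) (v 2)) (w 2)) (mul (mul (v 0) (w 0)) (w 3))) (mul (mul (v 1) (v 2)) (v 3))) (mul (mul (mul (v 1) (v 2)) (v 2)) (w 2))) (mul (v 1) (w 3))) ++ x7E (add (mul (mul (v 0) (v 2)) (w 2)) (mul (v 0) (v 3)))) = true := by decide +kernel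

theorem c_r34 : chkE (x3E (v 0) ++ x4E (v 2) (v 3))
    (x4E (v 2) (v 3) ++ x3E (v 0)) = true := by decide +kernel

theorem c_r35 : chkE (x3E (v 0) ++ x5E (v 2))
    (x5E (v 2) ++ x3E (v 0)) = true := by decide +kernel

theorem c_r36 : chkE (x3E (v 0) ++ x6E (v 2) (v 3))
    (x6E (v 2) (v 3) ++ x3E (v 0) ++ x4E zero (mul (v 0) (v 2))) = true := by decide +kernel

theorem c_r37 : chkE (x3E (v 0) ++ x7E (v 2))
    (x7E (v 2) ++ x3E (v 0)) = true := by decide +kernel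

theorem c_r38 : chkE (x3E (v 0) ++ x8E (v 2) (v 3))
    (x8E (v 2) (v 3) ++ x3E (v 0) ++ x4E zero (mul (w 0) (v 2)) ++ x5E (mul (v 0) (w 2)) ++ x6E zero (add (mul (mul (v 0) (v 2)) (w 2)) (mul (v 0) (v 3)))) = true := by decide +kernel

theorem c_r45 : chkE (x4E (v 0) (v 1) ++ x5E (v 2))
    (x5E (v 2) ++ x4E (v 0) (v 1)) = true := by decide +kernel

theorem c_r46 : chkE (x4E (v 0) (v 1) ++ x6E (v 2) (v 3))
    (x6E (v 2) (v 3) ++ x4E (v 0) (v 1) ++ x5E (mul (v 0) (v 2))) = true := by decide +kernel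

theorem c_r47 : chkE (x4E (v 0) (v 1) ++ x7E (v 2))
    (x7E (v 2) ++ x4E (v 0) (v 1) ++ x6E zero (mul (v 0) (v 2))) = true := by decide +kernel

theorem c_r48 : chkE (x4E (v 0) (v 1) ++ x8E (v 2) (v 3))
    (x8E (v 2) (v 3) ++ x4E (v 0) (v 1)) = true := by decide +kernel

theorem c_r56 : chkE (x5E (v 0) ++ x6E (v 2) (v 3))
    (x6E (v 2) (v 3) ++ x5E (v 0)) = true := by decide +kernel

theorem c_r57 : chkE (x5E (v 0) ++ x7E (v 2))
    (x7E (v 2) ++ x5E (v 0)) = true := by decide +kernel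

theorem c_r58 : chkE (x5E (v 0) ++ x8E (v 2) (v 3))
    (x8E (v 2) (v 3) ++ x5E (v 0) ++ x6E zero (mul (v 0) (v 2))) = true := by decide +kernel

theorem c_r67 : chkE (x6E (v 0) (v 1) ++ x7E (v 2))
    (x7E (v 2) ++ x6E (v 0) (v 1)) = true := by decide +kernel

theorem c_r68 : chkE (x6E (v 0) (v 1) ++ x8E (v 2) (v 3))
    (x8E (v 2) (v 3) ++ x6E (v 0) (v 1) ++ x7E (mul (v 0) (v 2))) = true := by decide +kernel

theorem c_r78 : chkE (x7E (v 0) ++ x8E (v 2) (v 3))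
    (x8E (v 2) (v 3) ++ x7E (v 0)) = true := by decide +kernel

section

variable {K : Type*} [Field K] [CharP K 2]

/-- `x1` -/
def x1 (σ : K →+* K) (t : K) : GL chevF4.Idx K := xo σ 33 24 t

/-- `x2` -/
def x2 (σ : K →+* K) (p u : K) : GL chevF4.Idx K := xe σ 34 26 36 42 p u

/-- `x3` -/
def x3 (σ : K →+* K) (t : K) : GL chevF4.Idx K := xo σ 38 43 t

/-- `x4` -/
def x4 (σ : K →+* K) (p u : K) : GL chevF4.Idx K := xe σ 29 41 44 47 p u

/-- `x5` -/
def x5 (σ : K →+* K) (t : K) : GL chevF4.Idx K := xo σ 39 45 t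

/-- `x6` -/
def x6 (σ : K →+* K) (p u : K) : GL chevF4.Idx K := xe σ 35 31 40 46 p u

/-- `x7` -/
def x7 (σ : K →+* K) (t : K) : GL chevF4.Idx K := xo σ 37 32 t

/-- `x8` -/
def x8 (σ : K →+* K) (p u : K) : GL chevF4.Idx K := xe σ 27 25 28 30 p u

variable (σ : K →+* K) (hσ : ∀ t, σ (σ t) = t ^ 2)

include hσ in
theorem den_x1 (y : ℕ → K) (t : Ex) : denW σ y (x1E t) = x1 σ (t.den σ y) :=
  den_xoE σ hσ y _ _ t

include hσ in
theorem den_x2 (y : ℕ → K) (p u : Ex) : denW σ y (x2E p u) = x2 σ (p.den σ y) (u.den σ y) :=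
  den_xeE σ hσ y _ _ _ _ p u

include hσ in
theorem den_x3 (y : ℕ → K) (t : Ex) : denW σ y (x3E t) = x3 σ (t.den σ y) :=
  den_xoE σ hσ y _ _ t

include hσ in
theorem den_x4 (y : ℕ → K) (p u : Ex) : denW σ y (x4E p u) = x4 σ (p.den σ y) (u.den σ y) :=
  den_xeE σ hσ y _ _ _ _ p u

include hσ in
theorem den_x5 (y : ℕ → K) (t : Ex) : denW σ y (x5E t) = x5 σ (t.den σ y) :=
  den_xoE σ hσ y _ _ t

include hσ in
theorem den_x6 (y : ℕ → K) (p u : Ex) : denW σ y (x6E p u) = x6 σ (p.den σ y) (u.den σ y) :=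
  den_xeE σ hσ y _ _ _ _ p u

include hσ in
theorem den_x7 (y : ℕ → K) (t : Ex) : denW σ y (x7E t) = x7 σ (t.den σ y) :=
  den_xoE σ hσ y _ _ t

include hσ in
theorem den_x8 (y : ℕ → K) (p u : Ex) : denW σ y (x8E p u) = x8 σ (p.den σ y) (u.den σ y) :=
  den_xeE σ hσ y _ _ _ _ p u

include hσ in
/-- **The model satisfies `OctRel`.** -/
theorem octRel : OctRel σ (x1 σ) (x3 σ) (x5 σ) (x7 σ) (x2 σ) (x4 σ) (x6 σ) (x8 σ) where
  m1 := by
    intro t s
    have h := denW_eq_of_chkE σ (yy t 0 s 0) _ _ c_m1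
    simp only [denW_append, den_x1 σ hσ, den_x2 σ hσ, den_x3 σ hσ, den_x4 σ hσ, den_x5 σ hσ, den_x6 σ hσ, den_x7 σ hσ, den_x8 σ hσ, den_v, den_w, den_one, den_zero,
      den_add, den_mul, yy0, yy1, yy2, yy3] at h
    simpa only [mul_assoc] using h
  m2 := by
    intro p u q v
    have h := denW_eq_of_chkE σ (yy p u q v) _ _ c_m2
    simp only [denW_append, den_x1 σ hσ, den_x2 σ hσ, den_x3 σ hσ, den_x4 σ hσ, den_x5 σ hσ, den_x6 σ hσ, den_x7 σ hσ, den_x8 σ hσ, den_v, den_w, den_one, den_zero,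
      den_add, den_mul, yy0, yy1, yy2, yy3] at h
    simpa only [mul_assoc] using h
  m3 := by
    intro t s
    have h := denW_eq_of_chkE σ (yy t 0 s 0) _ _ c_m3
    simp only [denW_append, den_x1 σ hσ, den_x2 σ hσ, den_x3 σ hσ, den_x4 σ hσ, den_x5 σ hσ, den_x6 σ hσ, den_x7 σ hσ, den_x8 σ hσ, den_v, den_w, den_one, den_zero,
      den_add, den_mul, yy0, yy1, yy2, yy3] at h
    simpa only [mul_assoc] using h
  m4 := by
    intro p u q v
    have h := denW_eq_of_chkE σ (yy p u q v) _ _ c_m4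
    simp only [denW_append, den_x1 σ hσ, den_x2 σ hσ, den_x3 σ hσ, den_x4 σ hσ, den_x5 σ hσ, den_x6 σ hσ, den_x7 σ hσ, den_x8 σ hσ, den_v, den_w, den_one, den_zero,
      den_add, den_mul, yy0, yy1, yy2, yy3] at h
    simpa only [mul_assoc] using h
  m5 := by
    intro t s
    have h := denW_eq_of_chkE σ (yy t 0 s 0) _ _ c_m5
    simp only [denW_append, den_x1 σ hσ, den_x2 σ hσ, den_x3 σ hσ, den_x4 σ hσ, den_x5 σ hσ, den_x6 σ hσ, den_x7 σ hσ, den_x8 σ hσ, den_v, den_w, den_one, den_zero,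
      den_add, den_mul, yy0, yy1, yy2, yy3] at h
    simpa only [mul_assoc] using h
  m6 := by
    intro p u q v
    have h := denW_eq_of_chkE σ (yy p u q v) _ _ c_m6
    simp only [denW_append, den_x1 σ hσ, den_x2 σ hσ, den_x3 σ hσ, den_x4 σ hσ, den_x5 σ hσ, den_x6 σ hσ, den_x7 σ hσ, den_x8 σ hσ, den_v, den_w, den_one, den_zero,
      den_add, den_mul, yy0, yy1, yy2, yy3] at h
    simpa only [mul_assoc] using h
  m7 := by
    intro t s
    have h := denW_eq_of_chkE σ (yy t 0 s 0) _ _ c_m7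
    simp only [denW_append, den_x1 σ hσ, den_x2 σ hσ, den_x3 σ hσ, den_x4 σ hσ, den_x5 σ hσ, den_x6 σ hσ, den_x7 σ hσ, den_x8 σ hσ, den_v, den_w, den_one, den_zero,
      den_add, den_mul, yy0, yy1, yy2, yy3] at h
    simpa only [mul_assoc] using h
  m8 := by
    intro p u q v
    have h := denW_eq_of_chkE σ (yy p u q v) _ _ c_m8
    simp only [denW_append, den_x1 σ hσ, den_x2 σ hσ, den_x3 σ hσ, den_x4 σ hσ, den_x5 σ hσ, den_x6 σ hσ, den_x7 σ hσ, den_x8 σ hσ, den_v, den_w, den_one, den_zero,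
      den_add, den_mul, yy0, yy1, yy2, yy3] at h
    simpa only [mul_assoc] using h
  r12 := by
    intro t q v
    have h := denW_eq_of_chkE σ (yy t 0 q v) _ _ c_r12
    simp only [denW_append, den_x1 σ hσ, den_x2 σ hσ, den_x3 σ hσ, den_x4 σ hσ, den_x5 σ hσ, den_x6 σ hσ, den_x7 σ hσ, den_x8 σ hσ, den_v, den_w, den_one, den_zero,
      den_add, den_mul, yy0, yy1, yy2, yy3] at h
    simpa only [mul_assoc] using h
  r13 := by
    intro t s
    have h := denW_eq_of_chkE σ (yy t 0 s 0) _ _ c_r13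
    simp only [denW_append, den_x1 σ hσ, den_x2 σ hσ, den_x3 σ hσ, den_x4 σ hσ, den_x5 σ hσ, den_x6 σ hσ, den_x7 σ hσ, den_x8 σ hσ, den_v, den_w, den_one, den_zero,
      den_add, den_mul, yy0, yy1, yy2, yy3] at h
    simpa only [mul_assoc] using h
  r14 := by
    intro t q v
    have h := denW_eq_of_chkE σ (yy t 0 q v) _ _ c_r14
    simp only [denW_append, den_x1 σ hσ, den_x2 σ hσ, den_x3 σ hσ, den_x4 σ hσ, den_x5 σ hσ, den_x6 σ hσ, den_x7 σ hσ, den_x8 σ hσ, den_v, den_w, den_one, den_zero,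
      den_add, den_mul, yy0, yy1, yy2, yy3] at h
    simpa only [mul_assoc] using h
  r15 := by
    intro t s
    have h := denW_eq_of_chkE σ (yy t 0 s 0) _ _ c_r15
    simp only [denW_append, den_x1 σ hσ, den_x2 σ hσ, den_x3 σ hσ, den_x4 σ hσ, den_x5 σ hσ, den_x6 σ hσ, den_x7 σ hσ, den_x8 σ hσ, den_v, den_w, den_one, den_zero,
      den_add, den_mul, yy0, yy1, yy2, yy3] at h
    simpa only [mul_assoc] using h
  r16 := by
    intro t q v
    have h := denW_eq_of_chkE σ (yy t 0 q v) _ _ c_r16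
    simp only [denW_append, den_x1 σ hσ, den_x2 σ hσ, den_x3 σ hσ, den_x4 σ hσ, den_x5 σ hσ, den_x6 σ hσ, den_x7 σ hσ, den_x8 σ hσ, den_v, den_w, den_one, den_zero,
      den_add, den_mul, yy0, yy1, yy2, yy3] at h
    simpa only [mul_assoc] using h
  r17 := by
    intro t s
    have h := denW_eq_of_chkE σ (yy t 0 s 0) _ _ c_r17
    simp only [denW_append, den_x1 σ hσ, den_x2 σ hσ, den_x3 σ hσ, den_x4 σ hσ, den_x5 σ hσ, den_x6 σ hσ, den_x7 σ hσ, den_x8 σ hσ, den_v, den_w, den_one, den_zero,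
      den_add, den_mul, yy0, yy1, yy2, yy3] at h
    simpa only [mul_assoc] using h
  r18 := by
    intro t q v
    have h := denW_eq_of_chkE σ (yy t 0 q v) _ _ c_r18
    simp only [denW_append, den_x1 σ hσ, den_x2 σ hσ, den_x3 σ hσ, den_x4 σ hσ, den_x5 σ hσ, den_x6 σ hσ, den_x7 σ hσ, den_x8 σ hσ, den_v, den_w, den_one, den_zero,
      den_add, den_mul, yy0, yy1, yy2, yy3] at h
    simpa only [mul_assoc] using h
  r23 := by
    intro p u s
    have h := denW_eq_of_chkE σ (yy p u s 0) _ _ c_r23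
    simp only [denW_append, den_x1 σ hσ, den_x2 σ hσ, den_x3 σ hσ, den_x4 σ hσ, den_x5 σ hσ, den_x6 σ hσ, den_x7 σ hσ, den_x8 σ hσ, den_v, den_w, den_one, den_zero,
      den_add, den_mul, yy0, yy1, yy2, yy3] at h
    simpa only [mul_assoc] using h
  r24 := by
    intro p u q v
    have h := denW_eq_of_chkE σ (yy p u q v) _ _ c_r24
    simp only [denW_append, den_x1 σ hσ, den_x2 σ hσ, den_x3 σ hσ, den_x4 σ hσ, den_x5 σ hσ, den_x6 σ hσ, den_x7 σ hσ, den_x8 σ hσ, den_v, den_w, den_one, den_zero,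
      den_add, den_mul, yy0, yy1, yy2, yy3] at h
    simpa only [mul_assoc] using h
  r25 := by
    intro p u s
    have h := denW_eq_of_chkE σ (yy p u s 0) _ _ c_r25
    simp only [denW_append, den_x1 σ hσ, den_x2 σ hσ, den_x3 σ hσ, den_x4 σ hσ, den_x5 σ hσ, den_x6 σ hσ, den_x7 σ hσ, den_x8 σ hσ, den_v, den_w, den_one, den_zero,
      den_add, den_mul, yy0, yy1, yy2, yy3] at h
    simpa only [mul_assoc] using h
  r26 := by
    intro p u q v
    have h := denW_eq_of_chkE σ (yy p u q v) _ _ c_r26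
    simp only [denW_append, den_x1 σ hσ, den_x2 σ hσ, den_x3 σ hσ, den_x4 σ hσ, den_x5 σ hσ, den_x6 σ hσ, den_x7 σ hσ, den_x8 σ hσ, den_v, den_w, den_one, den_zero,
      den_add, den_mul, yy0, yy1, yy2, yy3] at h
    simpa only [mul_assoc] using h
  r27 := by
    intro p u s
    have h := denW_eq_of_chkE σ (yy p u s 0) _ _ c_r27
    simp only [denW_append, den_x1 σ hσ, den_x2 σ hσ, den_x3 σ hσ, den_x4 σ hσ, den_x5 σ hσ, den_x6 σ hσ, den_x7 σ hσ, den_x8 σ hσ, den_v, den_w, den_one, den_zero,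
      den_add, den_mul, yy0, yy1, yy2, yy3] at h
    simpa only [mul_assoc] using h
  r28 := by
    intro p u q v
    have h := denW_eq_of_chkE σ (yy p u q v) _ _ c_r28
    simp only [denW_append, den_x1 σ hσ, den_x2 σ hσ, den_x3 σ hσ, den_x4 σ hσ, den_x5 σ hσ, den_x6 σ hσ, den_x7 σ hσ, den_x8 σ hσ, den_v, den_w, den_one, den_zero,
      den_add, den_mul, yy0, yy1, yy2, yy3] at h
    simpa only [mul_assoc] using h
  r34 := by
    intro t q v
    have h := denW_eq_of_chkE σ (yy t 0 q v) _ _ c_r34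
    simp only [denW_append, den_x1 σ hσ, den_x2 σ hσ, den_x3 σ hσ, den_x4 σ hσ, den_x5 σ hσ, den_x6 σ hσ, den_x7 σ hσ, den_x8 σ hσ, den_v, den_w, den_one, den_zero,
      den_add, den_mul, yy0, yy1, yy2, yy3] at h
    simpa only [mul_assoc] using h
  r35 := by
    intro t s
    have h := denW_eq_of_chkE σ (yy t 0 s 0) _ _ c_r35
    simp only [denW_append, den_x1 σ hσ, den_x2 σ hσ, den_x3 σ hσ, den_x4 σ hσ, den_x5 σ hσ, den_x6 σ hσ, den_x7 σ hσ, den_x8 σ hσ, den_v, den_w, den_one, den_zero,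
      den_add, den_mul, yy0, yy1, yy2, yy3] at h
    simpa only [mul_assoc] using h
  r36 := by
    intro t q v
    have h := denW_eq_of_chkE σ (yy t 0 q v) _ _ c_r36
    simp only [denW_append, den_x1 σ hσ, den_x2 σ hσ, den_x3 σ hσ, den_x4 σ hσ, den_x5 σ hσ, den_x6 σ hσ, den_x7 σ hσ, den_x8 σ hσ, den_v, den_w, den_one, den_zero,
      den_add, den_mul, yy0, yy1, yy2, yy3] at h
    simpa only [mul_assoc] using h
  r37 := by
    intro t s
    have h := denW_eq_of_chkE σ (yy t 0 s 0) _ _ c_r37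
    simp only [denW_append, den_x1 σ hσ, den_x2 σ hσ, den_x3 σ hσ, den_x4 σ hσ, den_x5 σ hσ, den_x6 σ hσ, den_x7 σ hσ, den_x8 σ hσ, den_v, den_w, den_one, den_zero,
      den_add, den_mul, yy0, yy1, yy2, yy3] at h
    simpa only [mul_assoc] using h
  r38 := by
    intro t q v
    have h := denW_eq_of_chkE σ (yy t 0 q v) _ _ c_r38
    simp only [denW_append, den_x1 σ hσ, den_x2 σ hσ, den_x3 σ hσ, den_x4 σ hσ, den_x5 σ hσ, den_x6 σ hσ, den_x7 σ hσ, den_x8 σ hσ, den_v, den_w, den_one, den_zero,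
      den_add, den_mul, yy0, yy1, yy2, yy3] at h
    simpa only [mul_assoc] using h
  r45 := by
    intro p u s
    have h := denW_eq_of_chkE σ (yy p u s 0) _ _ c_r45
    simp only [denW_append, den_x1 σ hσ, den_x2 σ hσ, den_x3 σ hσ, den_x4 σ hσ, den_x5 σ hσ, den_x6 σ hσ, den_x7 σ hσ, den_x8 σ hσ, den_v, den_w, den_one, den_zero,
      den_add, den_mul, yy0, yy1, yy2, yy3] at h
    simpa only [mul_assoc] using h
  r46 := by
    intro p u q v
    have h := denW_eq_of_chkE σ (yy p u q v) _ _ c_r46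
    simp only [denW_append, den_x1 σ hσ, den_x2 σ hσ, den_x3 σ hσ, den_x4 σ hσ, den_x5 σ hσ, den_x6 σ hσ, den_x7 σ hσ, den_x8 σ hσ, den_v, den_w, den_one, den_zero,
      den_add, den_mul, yy0, yy1, yy2, yy3] at h
    simpa only [mul_assoc] using h
  r47 := by
    intro p u s
    have h := denW_eq_of_chkE σ (yy p u s 0) _ _ c_r47
    simp only [denW_append, den_x1 σ hσ, den_x2 σ hσ, den_x3 σ hσ, den_x4 σ hσ, den_x5 σ hσ, den_x6 σ hσ, den_x7 σ hσ, den_x8 σ hσ, den_v, den_w, den_one, den_zero,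
      den_add, den_mul, yy0, yy1, yy2, yy3] at h
    simpa only [mul_assoc] using h
  r48 := by
    intro p u q v
    have h := denW_eq_of_chkE σ (yy p u q v) _ _ c_r48
    simp only [denW_append, den_x1 σ hσ, den_x2 σ hσ, den_x3 σ hσ, den_x4 σ hσ, den_x5 σ hσ, den_x6 σ hσ, den_x7 σ hσ, den_x8 σ hσ, den_v, den_w, den_one, den_zero,
      den_add, den_mul, yy0, yy1, yy2, yy3] at h
    simpa only [mul_assoc] using h
  r56 := by
    intro t q v
    have h := denW_eq_of_chkE σ (yy t 0 q v) _ _ c_r56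
    simp only [denW_append, den_x1 σ hσ, den_x2 σ hσ, den_x3 σ hσ, den_x4 σ hσ, den_x5 σ hσ, den_x6 σ hσ, den_x7 σ hσ, den_x8 σ hσ, den_v, den_w, den_one, den_zero,
      den_add, den_mul, yy0, yy1, yy2, yy3] at h
    simpa only [mul_assoc] using h
  r57 := by
    intro t s
    have h := denW_eq_of_chkE σ (yy t 0 s 0) _ _ c_r57
    simp only [denW_append, den_x1 σ hσ, den_x2 σ hσ, den_x3 σ hσ, den_x4 σ hσ, den_x5 σ hσ, den_x6 σ hσ, den_x7 σ hσ, den_x8 σ hσ, den_v, den_w, den_one, den_zero,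
      den_add, den_mul, yy0, yy1, yy2, yy3] at h
    simpa only [mul_assoc] using h
  r58 := by
    intro t q v
    have h := denW_eq_of_chkE σ (yy t 0 q v) _ _ c_r58
    simp only [denW_append, den_x1 σ hσ, den_x2 σ hσ, den_x3 σ hσ, den_x4 σ hσ, den_x5 σ hσ, den_x6 σ hσ, den_x7 σ hσ, den_x8 σ hσ, den_v, den_w, den_one, den_zero,
      den_add, den_mul, yy0, yy1, yy2, yy3] at h
    simpa only [mul_assoc] using h
  r67 := by
    intro p u s
    have h := denW_eq_of_chkE σ (yy p u s 0) _ _ c_r67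
    simp only [denW_append, den_x1 σ hσ, den_x2 σ hσ, den_x3 σ hσ, den_x4 σ hσ, den_x5 σ hσ, den_x6 σ hσ, den_x7 σ hσ, den_x8 σ hσ, den_v, den_w, den_one, den_zero,
      den_add, den_mul, yy0, yy1, yy2, yy3] at h
    simpa only [mul_assoc] using h
  r68 := by
    intro p u q v
    have h := denW_eq_of_chkE σ (yy p u q v) _ _ c_r68
    simp only [denW_append, den_x1 σ hσ, den_x2 σ hσ, den_x3 σ hσ, den_x4 σ hσ, den_x5 σ hσ, den_x6 σ hσ, den_x7 σ hσ, den_x8 σ hσ, den_v, den_w, den_one, den_zero,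
      den_add, den_mul, yy0, yy1, yy2, yy3] at h
    simpa only [mul_assoc] using h
  r78 := by
    intro t q v
    have h := denW_eq_of_chkE σ (yy t 0 q v) _ _ c_r78
    simp only [denW_append, den_x1 σ hσ, den_x2 σ hσ, den_x3 σ hσ, den_x4 σ hσ, den_x5 σ hσ, den_x6 σ hσ, den_x7 σ hσ, den_x8 σ hσ, den_v, den_w, den_one, den_zero,
      den_add, den_mul, yy0, yy1, yy2, yy3] at h
    simpa only [mul_assoc] using h

end

end Cfsg.Agent.Octagon.KRel
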