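import Cfsg.Agent.Octagon.KRel
import Cfsg.Agent.ChevalleyStructure.TwF4.BN
import Cfsg.Agent.ChevalleyStructure.TwF4.TwGen
import Cfsg.Agent.SplitTwo.RootSysZ

/-!
# The root group system of `²F₄` (K side of S1144, m = 8)
-/

set_option autoImplicit false
set_option linter.unusedSectionVars false

namespace Cfsg.Agent.Octagon.KSys

open Cfsg.Lie Cfsg.Agent.ChevalleyStructure.TwF4.Rel Cfsg.Agent.ChevalleyStructure.TwF4.Fix
open Cfsg.Agent.ChevalleyStructure.TwF4.Groups Cfsg.Agent.ChevalleyStructure.TwF4.RankOne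
open Cfsg.Agent.ChevalleyStructure.TwF4.Twisted Cfsg.Agent.ChevalleyStructure.TwF4.TwistedFix
open Cfsg.Agent.ChevalleyStructure.TwF4.BN
open Cfsg.Agent.Octagon.Pkg Cfsg.Agent.Octagon.KRel
open Cfsg.Agent.TitsThree.RankTwoZ

/-- the representative of a residue class modulo 16 in `1, …, 16` -/
def rep (k : ZMod (2 * 8)) : ℕ := if k.val = 0 then 16 else k.val

theorem rep_n1 : ∀ k : ZMod (2 * 8), (if rep k ≤ 9 then 10 - rep k else 26 - rep k) = rep (10 - k) := by decide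

theorem rep_n2 : ∀ k : ZMod (2 * 8), (if rep k ≤ 7 then 8 - rep k else 24 - rep k) = rep (8 - k) := by decide

variable {K : Type*} [Field K] [CharP K 2] [Finite K] {φ : K →+* K} {e : ℕ}

variable (K e) in
/-- the root groups -/
def XX (k : ZMod (2 * 8)) : Subgroup ↥(twistedF4 K e) := (GA K (clsB (rep k))).subgroupOf (twistedF4 K e)

theorem mem_XX {k : ZMod (2 * 8)} {g : ↥(twistedF4 K e)} : g ∈ XX K e k ↔ (g : GL chevF4.Idx K) ∈ GA K (clsB (rep k)) :=
  Iff.rfl

variable (K e) in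
/-- the element `n₁` -/
def m1 : ↥(twistedF4 K e) := ⟨n1 K, n1_mem⟩

/-- the element `n₂` -/
def m2 (hφ : Rln φ e) : ↥(twistedF4 K e) := ⟨n2 K, n2_mem hφ.pos⟩

theorem maps_m1 : Maps (XX K e) (m1 K e) (fun k => 10 - k) := by
  have h : ∀ k x, x ∈ XX K e k → m1 K e * x * (m1 K e)⁻¹ ∈ XX K e (10 - k) := by
    intro k x hx
    exact n1_cls (rep_n1 k) _ hx
  intro k x
  refine ⟨fun h1 => ?_, h k x⟩
  have h2 := h _ _ h1
  have e1 : m1 K e * (m1 K e * x * (m1 K e)⁻¹) * (m1 K e)⁻¹ = x := by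
    have e2 : m1 K e * m1 K e = 1 := Subtype.ext n1_mul_self
    have e3 : (m1 K e)⁻¹ = m1 K e := by rw [inv_eq_iff_mul_eq_one]; exact e2
    rw [e3]
    calc m1 K e * (m1 K e * x * m1 K e) * m1 K e = (m1 K e * m1 K e) * x * (m1 K e * m1 K e) := by group
      _ = x := by rw [e2, one_mul, mul_one]
  rw [e1, sub_sub_cancel] at h2
  exact h2

theorem maps_m2 (hφ : Rln φ e) : Maps (XX K e) (m2 hφ) (fun k => 8 - k) := by
  have h : ∀ k x, x ∈ XX K e k → m2 hφ * x * (m2 hφ)⁻¹ ∈ XX K e (8 - k) := by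
    intro k x hx
    exact n2_cls (rep_n2 k) _ hx
  intro k x
  refine ⟨fun h1 => ?_, h k x⟩
  have h2 := h _ _ h1
  have e1 : m2 hφ * (m2 hφ * x * (m2 hφ)⁻¹) * (m2 hφ)⁻¹ = x := by
    have e2 : m2 hφ * m2 hφ = 1 := Subtype.ext n2_mul_self
    have e3 : (m2 hφ)⁻¹ = m2 hφ := by rw [inv_eq_iff_mul_eq_one]; exact e2
    rw [e3]
    calc m2 hφ * (m2 hφ * x * m2 hφ) * m2 hφ = (m2 hφ * m2 hφ) * x * (m2 hφ * m2 hφ) := by group
      _ = x := by rw [e2, one_mul, mul_one]
  rw [e1, sub_sub_cancel] at h2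
  exact h2

/-! ### refined rank one relations -/

theorem Act_fix {g : GL chevF4.Idx K} {π : ℕ → ℕ} (hg : Act g π) (A : ℕ → Bool)
    (hA : ∀ r < 48, A r = true → π r = r) : ∀ x ∈ GA K A, g * x * g⁻¹ = x := by
  have h : GA K A ≤ Subgroup.centralizer ({g} : Set (GL chevF4.Idx K)) := by
    unfold GA
    rw [Subgroup.closure_le]
    rintro _ ⟨r, t, hr, hAr, rfl⟩
    rw [SetLike.mem_coe, Subgroup.mem_centralizer_singleton_iff]
    have h1 := hg.2 r hr t
    rw [hA r hr hAr] at h1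
    exact (mul_inv_eq_iff_eq_mul.1 h1).symm
  intro x hx
  have h1 := Subgroup.mem_centralizer_singleton_iff.1 (h hx)
  rw [mul_inv_eq_iff_eq_mul]
  exact h1.symm

/-- The part in `V` of the rank one relation is trivial. -/
theorem refine_rank {w : GL chevF4.Idx K} {π : ℕ → ℕ} (hw : Act w π) (A A' V : ℕ → Bool)
    (hA : ∀ r < 48, A r = true → π r = r) (hA' : ∀ r < 48, A' r = true → π r = r)
    (hV : ∀ r < 48, V r = true → negB (π r) = true) (hAp : ∀ r < 48, A r = true → 24 ≤ r)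
    (hVp : ∀ r < 48, V r = true → 24 ≤ r)
    (n : GL chevF4.Idx K) (hn : w * n * w⁻¹ = n) {y v x' h x : GL chevF4.Idx K} (hy : y ∈ GA K A')
    (hv : v ∈ GA K V) (hx' : x' ∈ GA K A) (hh : h ∈ chevF4.diagonalSubgroup K) (hx : x ∈ GA K A)
    (e : y = v * x' * h * n * x) : v = 1 := by
  have c1 := Act_fix hw A' hA' y hy
  have c2 := Act_fix hw A hA x hx
  have c3 := Act_fix hw A hA x' hx'
  have c4 := Act_conj_H hw h hh
  have c5 := Act_conj hw (B := negB) hV v hv
  set h' := w * h * w⁻¹ with hh'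
  set v' := w * v * w⁻¹ with hv'
  have e1 : y = v' * x' * h' * n * x := by
    calc y = w * y * w⁻¹ := c1.symm
      _ = w * (v * x' * h * n * x) * w⁻¹ := by rw [← e]
      _ = (w * v * w⁻¹) * (w * x' * w⁻¹) * (w * h * w⁻¹) * (w * n * w⁻¹) * (w * x * w⁻¹) := by group
      _ = v' * x' * h' * n * x := by rw [c2, c3, hn]
  have e2 : v * x' * h = v' * x' * h' := by
    rw [e] at e1
    exact mul_right_cancel (mul_right_cancel e1)
  have e3 : v' = v * x' * (h * h'⁻¹) * x'⁻¹ := by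
    have : v' * x' * h' * (h'⁻¹ * x'⁻¹) = v * x' * h * (h'⁻¹ * x'⁻¹) := by rw [e2]
    calc v' = v' * x' * h' * (h'⁻¹ * x'⁻¹) := by group
      _ = v * x' * h * (h'⁻¹ * x'⁻¹) := this
      _ = v * x' * (h * h'⁻¹) * x'⁻¹ := by group
  have hvp : v ∈ GA K posB := pos_le_pos hVp hv
  have hxp : x' ∈ GA K posB := pos_le_pos hAp hx'
  have e4 : v' ∈ chevF4.borelSubgroup K := by
    rw [e3]
    exact mul_mem (mul_mem (mul_mem (U_le_borel hvp) (U_le_borel hxp))
      (H_le_borel (mul_mem hh (inv_mem c4)))) (inv_mem (U_le_borel hxp))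
  have e5 := borel_inf_negB v' e4 c5
  have e6 : v = w⁻¹ * v' * w := by rw [hv']; group
  rw [e6, e5]
  group

/-- the element acting as `k ↦ 2 - k` -/
def wA (K : Type*) [Field K] [CharP K 2] : GL chevF4.Idx K :=
  n1 K * (n2 K * (n1 K * (n2 K * (n1 K * (n2 K * (n1 K * (n2 K * n1 K)))))))

/-- the element acting as `k ↦ 16 - k` -/
def wB (K : Type*) [Field K] [CharP K 2] : GL chevF4.Idx K :=
  n1 K * (n2 K * (n1 K * (n2 K * (n1 K * (n2 K * n1 K)))))

/-- permutation of `wA` -/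
def pA (r : ℕ) : ℕ := w1 (w2 (w1 (w2 (w1 (w2 (w1 (w2 (w1 r))))))))

/-- permutation of `wB` -/
def pB (r : ℕ) : ℕ := w1 (w2 (w1 (w2 (w1 (w2 (w1 r))))))

theorem Act_wA : Act (wA K) pA := by
  have a1 := Act_mul (Act_n2 (K := K)) Act_n1
  have a2 := Act_mul (Act_n1 (K := K)) a1
  have a3 := Act_mul (Act_n2 (K := K)) a2
  have a4 := Act_mul (Act_n1 (K := K)) a3
  have a5 := Act_mul (Act_n2 (K := K)) a4
  have a6 := Act_mul (Act_n1 (K := K)) a5
  have a7 := Act_mul (Act_n2 (K := K)) a6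
  have a8 := Act_mul (Act_n1 (K := K)) a7
  exact a8

theorem Act_wB : Act (wB K) pB := by
  have a1 := Act_mul (Act_n2 (K := K)) Act_n1
  have a2 := Act_mul (Act_n1 (K := K)) a1
  have a3 := Act_mul (Act_n2 (K := K)) a2
  have a4 := Act_mul (Act_n1 (K := K)) a3
  have a5 := Act_mul (Act_n2 (K := K)) a4
  have a6 := Act_mul (Act_n1 (K := K)) a5
  exact a6

theorem chk_pA : ((List.range 48).all fun r => (!(clsB 1 r) || pA r == r) && (!(clsB 9 r) || pA r == r) &&
    (!(geB 2 r) || negB (pA r))) = true := by decide +kernel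

theorem chk_pB : ((List.range 48).all fun r => (!(clsB 8 r) || pB r == r) && (!(clsB 16 r) || pB r == r) &&
    (!(leB 7 r) || negB (pB r))) = true := by decide +kernel

theorem pA_spec (r : ℕ) (hr : r < 48) : (clsB 1 r = true → pA r = r) ∧ (clsB 9 r = true → pA r = r) ∧
    (geB 2 r = true → negB (pA r) = true) := by
  have h := chk_pA
  rw [List.all_eq_true] at h
  have h1 := h r (List.mem_range.2 hr)
  simp only [Bool.and_eq_true, Bool.or_eq_true, Bool.not_eq_true', beq_iff_eq] at h1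
  obtain ⟨⟨a, b⟩, c⟩ := h1
  refine ⟨fun h => ?_, fun h => ?_, fun h => ?_⟩
  · rcases a with a | a
    · rw [h] at a; exact absurd a (by simp)
    · exact a
  · rcases b with a | a
    · rw [h] at a; exact absurd a (by simp)
    · exact a
  · rcases c with a | a
    · rw [h] at a; exact absurd a (by simp)
    · exact a

theorem pB_spec (r : ℕ) (hr : r < 48) : (clsB 8 r = true → pB r = r) ∧ (clsB 16 r = true → pB r = r) ∧
    (leB 7 r = true → negB (pB r) = true) := by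
  have h := chk_pB
  rw [List.all_eq_true] at h
  have h1 := h r (List.mem_range.2 hr)
  simp only [Bool.and_eq_true, Bool.or_eq_true, Bool.not_eq_true', beq_iff_eq] at h1
  obtain ⟨⟨a, b⟩, c⟩ := h1
  refine ⟨fun h => ?_, fun h => ?_, fun h => ?_⟩
  · rcases a with a | a
    · rw [h] at a; exact absurd a (by simp)
    · exact a
  · rcases b with a | a
    · rw [h] at a; exact absurd a (by simp)
    · exact a
  · rcases c with a | a
    · rw [h] at a; exact absurd a (by simp)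
    · exact a

theorem conj_prod {G : Type*} [Group G] {w a b : G} (h1 : w * a * w⁻¹ = a) (h2 : w * b * w⁻¹ = b) :
    w * (a * b) * w⁻¹ = a * b := by
  calc w * (a * b) * w⁻¹ = (w * a * w⁻¹) * (w * b * w⁻¹) := by group
    _ = a * b := by rw [h1, h2]

theorem wA_n1 : wA K * n1 K * (wA K)⁻¹ = n1 K := by
  have h : ∀ r < 48, (clsB 1 r = true ∨ clsB 9 r = true) → ∀ t : K, wA K * X r t * (wA K)⁻¹ = X r t := by
    intro r hr h t
    have h1 := Act_wA.2 r hr t
    rcases h with h | h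
    · rwa [(pA_spec r hr).1 h] at h1
    · rwa [(pA_spec r hr).2.1 h] at h1
  rw [Cfsg.Agent.ChevalleyStructure.TwF4.TwGen.n1_eq]
  exact conj_prod (conj_prod (conj_prod (h 33 (by norm_num) (by decide) 1) (h 24 (by norm_num) (by decide) 1))
    (conj_prod (h 14 (by norm_num) (by decide) 1) (h 23 (by norm_num) (by decide) 1)))
    (conj_prod (h 33 (by norm_num) (by decide) 1) (h 24 (by norm_num) (by decide) 1))

theorem wB_n2 : wB K * n2 K * (wB K)⁻¹ = n2 K := by
  have h : ∀ r < 48, (clsB 8 r = true ∨ clsB 16 r = true) → ∀ t : K, wB K * X r t * (wB K)⁻¹ = X r t := by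
    intro r hr h t
    have h1 := Act_wB.2 r hr t
    rcases h with h | h
    · rwa [(pB_spec r hr).1 h] at h1
    · rwa [(pB_spec r hr).2.1 h] at h1
  rw [Cfsg.Agent.ChevalleyStructure.TwF4.TwGen.n2_eq]
  exact conj_prod (conj_prod (conj_prod (h 28 (by norm_num) (by decide) 1) (h 30 (by norm_num) (by decide) 1))
    (conj_prod (conj_prod (h 20 (by norm_num) (by decide) 1) (h 22 (by norm_num) (by decide) 1))
      (h 17 (by norm_num) (by decide) 1)))
    (conj_prod (conj_prod (h 27 (by norm_num) (by decide) 1) (h 25 (by norm_num) (by decide) 1))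
      (h 28 (by norm_num) (by decide) 1))

/-- rank one relation of the first class -/
theorem rank1 (hφ : Rln φ e) (y : GL chevF4.Idx K) (hy : y ∈ GA K (clsB 9)) (hyG : y ∈ twistedF4 K e) (hy1 : y ≠ 1) :
    ∃ x' ∈ GA K (clsB 1), x' ∈ twistedF4 K e ∧ ∃ h ∈ chevF4.diagonalSubgroup K, h ∈ twistedF4 K e ∧
      ∃ x ∈ GA K (clsB 1), x ∈ twistedF4 K e ∧ y = x' * h * n1 K * x := by
  obtain ⟨u, hu, huG, h, hh, hhG, x, hx, hxG, e0⟩ := rank_one1 hφ y hy hyG hy1
  obtain ⟨v, hv, x', hx', hx'G, e1⟩ := decomp1 hφ u hu huG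
  rw [e1] at e0
  have h1 := refine_rank Act_wA (clsB 1) (clsB 9) (geB 2) (fun r hr => (pA_spec r hr).1)
    (fun r hr => (pA_spec r hr).2.1) (fun r hr => (pA_spec r hr).2.2) (cls_pos (by norm_num)) (ge_pos 2)
    (n1 K) wA_n1 hy hv hx' hh hx e0
  rw [h1, one_mul] at e0
  exact ⟨x', hx', hx'G, h, hh, hhG, x, hx, hxG, e0⟩

/-- rank one relation of the second class -/
theorem rank2 (hφ : Rln φ e) (y : GL chevF4.Idx K) (hy : y ∈ GA K (clsB 16)) (hyG : y ∈ twistedF4 K e) (hy1 : y ≠ 1) :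
    ∃ x' ∈ GA K (clsB 8), x' ∈ twistedF4 K e ∧ ∃ h ∈ chevF4.diagonalSubgroup K, h ∈ twistedF4 K e ∧
      ∃ x ∈ GA K (clsB 8), x ∈ twistedF4 K e ∧ y = x' * h * n2 K * x := by
  obtain ⟨u, hu, huG, h, hh, hhG, x, hx, hxG, e0⟩ := rank_one2 hφ y hy hyG hy1
  obtain ⟨v, hv, x', hx', hx'G, e1⟩ := decomp2 hφ u hu huG
  rw [e1] at e0
  have h1 := refine_rank Act_wB (clsB 8) (clsB 16) (leB 7) (fun r hr => (pB_spec r hr).1)
    (fun r hr => (pB_spec r hr).2.1) (fun r hr => (pB_spec r hr).2.2) (cls_pos (by norm_num)) (le_pos 7)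
    (n2 K) wB_n2 hy hv hx' hh hx e0
  rw [h1, one_mul] at e0
  exact ⟨x', hx', hx'G, h, hh, hhG, x, hx, hxG, e0⟩

end Cfsg.Agent.Octagon.KSys
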